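import Groth.Agent.HTopAwn.Base
import Mathlib.FieldTheory.PerfectClosure
import Mathlib.RingTheory.LocalProperties.Reduced
import Mathlib.RingTheory.Localization.Away.Basic

/-!
Seminormal and absolutely weakly normal rings: perfect rings, localization, gluing.
-/

universe u

namespace Groth.Agent.HTopAwn

open HTop

variable {A : Type u} [CommRing A]

theorem isAWNRing_of_perfect (p : ℕ) [Fact p.Prime] [CharP A p] [PerfectRing A p] : IsAWNRing A := by
  have hp : p.Prime := Fact.out
  haveI : ExpChar A p := ExpChar.prime hp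
  have hinj : Function.Injective fun z : A => z ^ p := PerfectRing.bijective_frobenius.1
  haveI : IsReduced A := ⟨fun z ⟨n, hn⟩ => by
    have : z ^ p ^ n = (0 : A) ^ p ^ n := by
      rw [zero_pow (pow_ne_zero _ hp.ne_zero)]
      exact pow_eq_zero_of_le (Nat.lt_pow_self hp.one_lt).le hn
    exact (PerfectRing.bijective_frobenius (p := p ^ n)).1 this⟩
  refine ⟨fun x y hxy => ?_, fun l hl x y hxy => ?_⟩
  · obtain ⟨i, j, hij⟩ : ∃ i j, 2 * i + 3 * j = p := by
      rcases hp.two_le.eq_or_lt with h | h
      · exact ⟨1, 0, by omega⟩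
      · rcases Nat.even_or_odd p with ⟨k, hk⟩ | ⟨k, hk⟩
        · exact ⟨k, 0, by omega⟩
        · exact ⟨k - 1, 1, by omega⟩
    obtain ⟨a, ha⟩ := (PerfectRing.bijective_frobenius (R := A) (p := p)).2 (x ^ i * y ^ j)
    simp only at ha
    refine ⟨a, ⟨hinj ?_, hinj ?_⟩, fun b hb => ?_⟩
    · simp only
      rw [← pow_mul, mul_comm 2 p, pow_mul, ha, mul_pow, ← pow_mul y, mul_comm j 2, pow_mul y, ← hxy,
        ← pow_mul, ← pow_mul, ← pow_add, ← hij]
      congr 1
      ring
    · simp only
      rw [← pow_mul, mul_comm 3 p, pow_mul, ha, mul_pow, ← pow_mul x, mul_comm i 3, pow_mul x, hxy,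
        ← pow_mul, ← pow_mul, ← pow_add, ← hij]
      congr 1
      ring
    · have ha2 : x = a ^ 2 := hinj (by
        simp only
        rw [← pow_mul, mul_comm 2 p, pow_mul, ha, mul_pow, ← pow_mul y, mul_comm j 2, pow_mul y, ← hxy,
          ← pow_mul, ← pow_mul, ← pow_add, ← hij]
        congr 1
        ring)
      have ha3 : y = a ^ 3 := hinj (by
        simp only
        rw [← pow_mul, mul_comm 3 p, pow_mul, ha, mul_pow, ← pow_mul x, mul_comm i 3, pow_mul x, hxy,
          ← pow_mul, ← pow_mul, ← pow_add, ← hij]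
        congr 1
        ring)
      exact eq_of_sq_cube (hb.1.symm.trans ha2) (hb.2.symm.trans ha3)
  · by_cases hlp : l = p
    · haveI : CharP A l := by rw [hlp]; infer_instance
      haveI : PerfectRing A l := by rw [hlp]; infer_instance
      have hinj : Function.Injective fun z : A => z ^ l := PerfectRing.bijective_frobenius.1
      have hy : y = 0 := by
        rw [CharP.cast_eq_zero, zero_pow hl.ne_zero, zero_mul] at hxy
        exact hinj (show y ^ l = 0 ^ l by rw [← hxy, zero_pow hl.ne_zero])
      obtain ⟨a, ha⟩ := (PerfectRing.bijective_frobenius (R := A) (p := l)).2 x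
      refine ⟨a, ⟨ha.symm, by rw [hy, CharP.cast_eq_zero, zero_mul]⟩, fun b hb => hinj ?_⟩
      exact hb.1.symm.trans ha.symm
    · obtain ⟨u, hu⟩ : IsUnit (l : A) := by
        have hco : Nat.Coprime l p := (Nat.coprime_primes hl hp).mpr hlp
        obtain ⟨m, n, hmn⟩ : IsCoprime (l : ℤ) (p : ℤ) := Nat.isCoprime_iff_coprime.mpr hco
        refine IsUnit.of_mul_eq_one (m : A) ?_
        have := congrArg (Int.cast : ℤ → A) hmn
        push_cast at this
        rw [CharP.cast_eq_zero A p, mul_zero, add_zero] at this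
        rw [mul_comm]
        exact this
      have h1 : (l : A) * (↑u⁻¹ * y) = y := by rw [← mul_assoc, ← hu, Units.mul_inv, one_mul]
      refine ⟨↑u⁻¹ * y, ⟨?_, h1.symm⟩, fun b hb => ?_⟩
      · rw [mul_pow, ← hxy, ← hu, ← mul_assoc, ← mul_pow, Units.inv_mul, one_pow, one_mul]
      · rw [hb.2, ← hu, ← mul_assoc, Units.inv_mul, one_mul]

theorem perfect_of_awn (p : ℕ) [Fact p.Prime] [CharP A p] (h : IsAWNRing A) : PerfectRing A p := by
  have hp : p.Prime := Fact.out
  haveI : ExpChar A p := ExpChar.prime hp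
  haveI := isReduced_of_seminormal h.1
  refine PerfectRing.ofSurjective A p fun x => ?_
  obtain ⟨a, ⟨ha, -⟩, -⟩ := h.2 p hp x 0 (by rw [CharP.cast_eq_zero, zero_pow hp.ne_zero, zero_mul])
  exact ⟨a, ha.symm⟩

theorem seminormal_away (f : A) (h : IsSeminormalRing A) : IsSeminormalRing (Localization.Away f) := by
  haveI := isReduced_of_seminormal h
  haveI : IsReduced (Localization.Away f) :=
    isReduced_localizationPreserves (Submonoid.powers f) (Localization.Away f) inferInstance
  intro x y hxy
  obtain ⟨m, a₀, ha₀⟩ := IsLocalization.Away.surj f x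
  obtain ⟨n, b₀, hb₀⟩ := IsLocalization.Away.surj f y
  let N := m + n
  have ha : algebraMap A (Localization.Away f) (a₀ * f ^ (2 * N - m)) =
      x * algebraMap A _ f ^ (2 * N) := by
    rw [map_mul, map_pow, ← ha₀, mul_assoc, ← pow_add]
    congr 2
    omega
  have hb : algebraMap A (Localization.Away f) (b₀ * f ^ (3 * N - n)) =
      y * algebraMap A _ f ^ (3 * N) := by
    rw [map_mul, map_pow, ← hb₀, mul_assoc, ← pow_add]
    congr 2
    omega
  obtain ⟨⟨_, M, rfl⟩, hM⟩ := (IsLocalization.eq_iff_exists (Submonoid.powers f) (Localization.Away f)).mp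
    (show algebraMap A _ ((a₀ * f ^ (2 * N - m)) ^ 3) = algebraMap A (Localization.Away f) ((b₀ * f ^ (3 * N - n)) ^ 2) by
      rw [map_pow, map_pow, ha, hb, mul_pow, mul_pow, hxy, ← pow_mul, ← pow_mul]
      congr 2
      ring)
  obtain ⟨c, ⟨hc2, hc3⟩, -⟩ := h (a₀ * f ^ (2 * N - m) * f ^ (2 * M)) (b₀ * f ^ (3 * N - n) * f ^ (3 * M)) (by
    simp only at hM
    linear_combination f ^ (5 * M) * hM)
  obtain ⟨u, hu⟩ := (IsLocalization.Away.algebraMap_isUnit (S := Localization.Away f) f).pow (N + M)
  have e2 : x = (algebraMap A _ c * ↑u⁻¹) ^ 2 := by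
    rw [mul_pow, ← map_pow, ← hc2, map_mul, ha, map_pow, mul_assoc x, ← pow_add, mul_assoc x,
      show 2 * N + 2 * M = (N + M) * 2 by ring, pow_mul, ← hu, ← mul_pow, Units.mul_inv, one_pow, mul_one]
  have e3 : y = (algebraMap A _ c * ↑u⁻¹) ^ 3 := by
    rw [mul_pow, ← map_pow, ← hc3, map_mul, hb, map_pow, mul_assoc y, ← pow_add, mul_assoc y,
      show 3 * N + 3 * M = (N + M) * 3 by ring, pow_mul, ← hu, ← mul_pow, Units.mul_inv, one_pow, mul_one]
  exact ⟨_, ⟨e2, e3⟩, fun b hb' => eq_of_sq_cube (hb'.1.symm.trans e2) (hb'.2.symm.trans e3)⟩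

theorem awn_away (f : A) (h : IsAWNRing A) : IsAWNRing (Localization.Away f) := by
  haveI := isReduced_of_seminormal h.1
  haveI : IsReduced (Localization.Away f) :=
    isReduced_localizationPreserves (Submonoid.powers f) (Localization.Away f) inferInstance
  refine ⟨seminormal_away f h.1, fun p hp x y hxy => ?_⟩
  obtain ⟨m, a₀, ha₀⟩ := IsLocalization.Away.surj f x
  obtain ⟨n, b₀, hb₀⟩ := IsLocalization.Away.surj f y
  let N := m + n
  have hle : N ≤ p * N := Nat.le_mul_of_pos_left _ hp.pos
  have ha : algebraMap A (Localization.Away f) (a₀ * f ^ (p * N - m)) =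
      x * algebraMap A _ f ^ (p * N) := by
    rw [map_mul, map_pow, ← ha₀, mul_assoc, ← pow_add]
    congr 2
    omega
  have hb : algebraMap A (Localization.Away f) (b₀ * f ^ (N - n)) = y * algebraMap A _ f ^ N := by
    rw [map_mul, map_pow, ← hb₀, mul_assoc, ← pow_add]
    congr 2
    omega
  obtain ⟨⟨_, M, rfl⟩, hM⟩ := (IsLocalization.eq_iff_exists (Submonoid.powers f) (Localization.Away f)).mp
    (show algebraMap A _ ((p : A) ^ p * (a₀ * f ^ (p * N - m))) = algebraMap A (Localization.Away f) ((b₀ * f ^ (N - n)) ^ p) by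
      rw [map_mul, map_pow, map_natCast, map_pow, ha, hb, ← mul_assoc, hxy, mul_pow, ← pow_mul, mul_comm N p])
  obtain ⟨c, ⟨hc1, hc2⟩, -⟩ := h.2 p hp (a₀ * f ^ (p * N - m) * f ^ (p * M)) (b₀ * f ^ (N - n) * f ^ M) (by
    simp only at hM
    obtain ⟨k, hk⟩ : ∃ k, p = k + 1 := ⟨p - 1, by have := hp.pos; omega⟩
    rw [mul_pow (b₀ * f ^ (N - n)), ← pow_mul, mul_comm M p]
    have : f ^ (p * M) = f ^ (k * M) * f ^ M := by rw [← pow_add, hk]; ring_nf
    rw [this]
    linear_combination f ^ (k * M) * hM)
  obtain ⟨u, hu⟩ := (IsLocalization.Away.algebraMap_isUnit (S := Localization.Away f) f).pow (N + M)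
  have e1 : x = (algebraMap A _ c * ↑u⁻¹) ^ p := by
    rw [mul_pow, ← map_pow, ← hc1, map_mul, ha, map_pow, mul_assoc x, ← pow_add, mul_assoc x,
      show p * N + p * M = (N + M) * p by ring, pow_mul, ← hu, ← mul_pow, Units.mul_inv, one_pow, mul_one]
  have e2 : y = (p : Localization.Away f) * (algebraMap A _ c * ↑u⁻¹) := by
    rw [← mul_assoc, ← map_natCast (algebraMap A (Localization.Away f)) p, ← map_mul, ← hc2, map_mul, hb,
      map_pow, mul_assoc y, ← pow_add, ← hu, mul_assoc, Units.mul_inv, mul_one]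
  exact ⟨_, ⟨e1, e2⟩, fun b hb' => eq_zero_of_pow_sub hp (hb'.1.symm.trans e1) (hb'.2.symm.trans e2)⟩

theorem reduced_of_span (s : Finset A) (hs : Ideal.span (s : Set A) = ⊤)
    (h : ∀ f ∈ s, IsReduced (Localization.Away f)) : IsReduced A := by
  refine ⟨fun z hz => Localization.algebraMap_injective_of_span_eq_top (s : Set A) hs (funext fun a => ?_)⟩
  haveI := h a.1 a.2
  rw [Pi.algebraMap_apply, Pi.algebraMap_apply, (hz.map (algebraMap A (Localization.Away (a : A)))).eq_zero, map_zero]

theorem seminormal_of_span (s : Finset A) (hs : Ideal.span (s : Set A) = ⊤)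
    (h : ∀ f ∈ s, IsSeminormalRing (Localization.Away f)) : IsSeminormalRing A := by
  intro x y hxy
  -- data transported along maps out of `A`
  haveI := reduced_of_span s hs fun f hf => isReduced_of_seminormal (h f hf)
  choose g hg using fun a : (s : Set A) => h a.1 a.2 (algebraMap A _ x) (algebraMap A _ y)
    (by rw [← map_pow, ← map_pow, hxy])
  obtain ⟨r, hr, -⟩ := Localization.existsUnique_algebraMap_eq_of_span_eq_top (s : Set A) hs g
    (fun a b => by
      haveI : IsReduced (Localization.Away (a * b : A)) :=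
        isReduced_localizationPreserves (Submonoid.powers (a * b : A)) (Localization.Away (a * b : A)) inferInstance
      refine eq_of_sq_cube ?_ ?_
      · rw [← map_pow, ← map_pow, ← (hg a).1.1, ← (hg b).1.1, IsLocalization.Away.awayToAwayRight_eq,
          IsLocalization.Away.awayToAwayLeft_eq]
      · rw [← map_pow, ← map_pow, ← (hg a).1.2, ← (hg b).1.2, IsLocalization.Away.awayToAwayRight_eq,
          IsLocalization.Away.awayToAwayLeft_eq])
  have e2 : x = r ^ 2 := Localization.algebraMap_injective_of_span_eq_top (s : Set A) hs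
    (funext fun a => by rw [Pi.algebraMap_apply, Pi.algebraMap_apply, map_pow, hr a]; exact (hg a).1.1)
  have e3 : y = r ^ 3 := Localization.algebraMap_injective_of_span_eq_top (s : Set A) hs
    (funext fun a => by rw [Pi.algebraMap_apply, Pi.algebraMap_apply, map_pow, hr a]; exact (hg a).1.2)
  exact ⟨r, ⟨e2, e3⟩, fun b hb => eq_of_sq_cube (hb.1.symm.trans e2) (hb.2.symm.trans e3)⟩

theorem awn_of_span (s : Finset A) (hs : Ideal.span (s : Set A) = ⊤)
    (h : ∀ f ∈ s, IsAWNRing (Localization.Away f)) : IsAWNRing A := by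
  refine ⟨seminormal_of_span s hs fun f hf => (h f hf).1, fun p hp x y hxy => ?_⟩
  haveI := reduced_of_span s hs fun f hf => isReduced_of_seminormal (h f hf).1
  choose g hg using fun a : (s : Set A) => (h a.1 a.2).2 p hp (algebraMap A _ x) (algebraMap A _ y)
    (by rw [← map_natCast (algebraMap A (Localization.Away (a : A))), ← map_pow, ← map_mul, hxy, map_pow])
  obtain ⟨r, hr, -⟩ := Localization.existsUnique_algebraMap_eq_of_span_eq_top (s : Set A) hs g
    (fun a b => by
      haveI : IsReduced (Localization.Away (a * b : A)) :=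
        isReduced_localizationPreserves (Submonoid.powers (a * b : A)) (Localization.Away (a * b : A)) inferInstance
      refine eq_zero_of_pow_sub hp ?_ ?_
      · rw [← map_pow, ← map_pow, ← (hg a).1.1, ← (hg b).1.1, IsLocalization.Away.awayToAwayRight_eq,
          IsLocalization.Away.awayToAwayLeft_eq]
      · rw [← map_natCast (IsLocalization.Away.awayToAwayRight (S := Localization.Away (a : A)) (P := Localization.Away (a * b : A)) (a : A) (b : A)) p,
          ← map_mul, ← (hg a).1.2, IsLocalization.Away.awayToAwayRight_eq, map_natCast,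
          ← map_natCast (IsLocalization.Away.awayToAwayLeft (S := Localization.Away (b : A)) (P := Localization.Away (a * b : A)) (b : A) (a : A)) p,
          ← map_mul, ← (hg b).1.2, IsLocalization.Away.awayToAwayLeft_eq])
  have e1 : x = r ^ p := Localization.algebraMap_injective_of_span_eq_top (s : Set A) hs
    (funext fun a => by rw [Pi.algebraMap_apply, Pi.algebraMap_apply, map_pow, hr a]; exact (hg a).1.1)
  have e2 : y = (p : A) * r := Localization.algebraMap_injective_of_span_eq_top (s : Set A) hs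
    (funext fun a => by rw [Pi.algebraMap_apply, Pi.algebraMap_apply, map_mul, map_natCast, hr a]; exact (hg a).1.2)
  exact ⟨r, ⟨e1, e2⟩, fun b hb => eq_zero_of_pow_sub hp (hb.1.symm.trans e1) (hb.2.symm.trans e2)⟩

end Groth.Agent.HTopAwn
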