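import Groth.Agent.HTopAwn.Restrict
import Groth.Agent.S15941
import Groth.Prelude.Def_Pi1
import Mathlib.AlgebraicGeometry.Morphisms.SchemeTheoreticallyDominant
import Mathlib.AlgebraicGeometry.Morphisms.Finite

/-!
Normal schemes are seminormal; the normalization and the seminormalization.
-/

set_option backward.isDefEq.respectTransparency false
set_option backward.isDefEq.respectTransparency.types false

universe u

namespace Groth.Agent.HTopAwn

open AlgebraicGeometry CategoryTheory Limits Scheme Groth.Agent.MorLib Groth.Agent.MorLib.RUH HTop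

/-- Seminormality of a reduced ring can be checked in the local rings. -/
theorem seminormal_of_localizations {A : Type u} [CommRing A] [_root_.IsReduced A]
    (h : ∀ p : PrimeSpectrum A, IsSeminormalRing (Localization.AtPrime p.asIdeal)) : IsSeminormalRing A := by
  intro x y hxy
  let I : Ideal A :=
    { carrier := {c | ∃ b, c ^ 2 * x = b ^ 2 ∧ c ^ 3 * y = b ^ 3}
      zero_mem' := ⟨0, by ring, by ring⟩
      add_mem' := by
        rintro c c' ⟨b, hb2, hb3⟩ ⟨b', hb2', hb3'⟩
        have m : b * b' = c * c' * x :=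
          eq_of_sq_cube (by rw [mul_pow, ← hb2, ← hb2']; ring)
            (by rw [mul_pow, ← hb3, ← hb3']; linear_combination (-(c ^ 3 * c' ^ 3)) * hxy)
        have m1 : b ^ 2 * b' = c ^ 2 * c' * y :=
          eq_of_sq_cube (by rw [mul_pow, ← pow_mul, show 2 * 2 = 2 + 2 from rfl, pow_add, ← hb2, ← hb2']
                            linear_combination (c ^ 4 * c' ^ 2) * hxy)
            (by rw [mul_pow, ← pow_mul, show 2 * 3 = 3 + 3 from rfl, pow_add, ← hb3, ← hb3']; ring)
        have m2 : b * b' ^ 2 = c * c' ^ 2 * y :=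
          eq_of_sq_cube (by rw [mul_pow, ← pow_mul, show 2 * 2 = 2 + 2 from rfl, pow_add, ← hb2, ← hb2']
                            linear_combination (c ^ 2 * c' ^ 4) * hxy)
            (by rw [mul_pow, ← pow_mul, show 2 * 3 = 3 + 3 from rfl, pow_add, ← hb3, ← hb3']; ring)
        exact ⟨b + b', by linear_combination hb2 + hb2' - 2 * m, by linear_combination hb3 + hb3' - 3 * m1 - 3 * m2⟩
      smul_mem' := by
        rintro a c ⟨b, hb2, hb3⟩
        exact ⟨a * b, by rw [smul_eq_mul]; linear_combination a ^ 2 * hb2, by rw [smul_eq_mul]; linear_combination a ^ 3 * hb3⟩ }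
  have hI : I = ⊤ := by
    by_contra hI
    obtain ⟨M, hM, hle⟩ := Ideal.exists_le_maximal I hI
    let q : PrimeSpectrum A := ⟨M, hM.isPrime⟩
    let L := Localization.AtPrime q.asIdeal
    obtain ⟨a, ⟨ha2, ha3⟩, -⟩ := h q (algebraMap A L x) (algebraMap A L y) (by rw [← map_pow, hxy, map_pow])
    obtain ⟨⟨s, t⟩, hst⟩ := IsLocalization.surj q.asIdeal.primeCompl a
    have e2 : algebraMap A L ((t : A) ^ 2 * x) = algebraMap A L (s ^ 2) := by
      rw [map_mul, map_pow, map_pow, ha2, ← hst]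
      ring
    have e3 : algebraMap A L ((t : A) ^ 3 * y) = algebraMap A L (s ^ 3) := by
      rw [map_mul, map_pow, map_pow, ha3, ← hst]
      ring
    obtain ⟨v, hv⟩ := IsLocalization.exists_of_eq (M := q.asIdeal.primeCompl) e2
    obtain ⟨w, hw⟩ := IsLocalization.exists_of_eq (M := q.asIdeal.primeCompl) e3
    have hmem : ((v : A) * w) * t ∈ I :=
      ⟨(v : A) * w * s, by linear_combination ((v : A) * (w : A) ^ 2) * hv,
        by linear_combination ((v : A) ^ 3 * (w : A) ^ 2) * hw⟩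
    exact (v * w * t).2 (hle hmem)
  obtain ⟨b, hb2, hb3⟩ : (1 : A) ∈ I := hI ▸ trivial
  rw [one_pow, one_mul] at hb2 hb3
  exact ⟨b, ⟨hb2, hb3⟩, fun b' hb' => eq_of_sq_cube (hb'.1.symm.trans hb2) (hb'.2.symm.trans hb3)⟩

theorem isReduced_of_isNormal {X : Scheme.{u}} (hX : Pi1.IsNormalScheme X) : IsReduced X := by
  haveI : ∀ x : X, _root_.IsReduced (X.presheaf.stalk x) := fun x => by
    haveI := (hX x).1
    infer_instance
  exact isReduced_of_isReduced_stalk X

theorem isSeminormal_of_isNormal {X : Scheme.{u}} (hX : Pi1.IsNormalScheme X) : IsSeminormal X := by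
  haveI := isReduced_of_isNormal hX
  intro x
  obtain ⟨U, hU, hxU, -⟩ := exists_isAffineOpen_mem_and_subset (U := ⊤) (x := x) trivial
  refine ⟨⟨U, hU⟩, hxU, seminormal_of_localizations fun p => ?_⟩
  have hy : hU.fromSpec p ∈ U := hU.range_fromSpec.subset (Set.mem_range_self p)
  letI := TopCat.Presheaf.algebra_section_stalk X.presheaf ⟨hU.fromSpec p, hy⟩
  haveI := hU.isLocalization_stalk' p hy
  haveI := (hX (hU.fromSpec p)).1
  haveI := (hX (hU.fromSpec p)).2
  exact seminormal_of_ringEquiv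
    (IsLocalization.algEquiv p.asIdeal.primeCompl (X.presheaf.stalk (hU.fromSpec p))
      (Localization.AtPrime p.asIdeal)).toRingEquiv
    (Groth.Agent.S15941.result _)

theorem exists_lift_of_isSeminormal {S T X' : Scheme.{u}} (π : T ⟶ S) (hT : IsSeminormal T)
    (ν : X' ⟶ S) (hν : IsSeminormalization ν) : ∃ g : T ⟶ X', g ≫ ν = π := by
  haveI := isReduced_of_isSeminormal hT
  haveI := universallyInjective_of_isUnivHomeo hν.1.1
  let P := pullback ν π
  let i := P.nilradical.subschemeι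
  haveI := Groth.Agent.H23.RedSub.isReduced_nilradical P
  haveI : Surjective i := ⟨by
    rw [← Set.range_eq_univ, Scheme.IdealSheafData.range_subschemeι, Scheme.support_nilradical]; rfl⟩
  have hs : FlatMor.IsUnivHomeo (pullback.snd ν π) :=
    isUnivHomeo_of_isPullback (IsPullback.of_hasPullback ν π).flip hν.1.1
  obtain ⟨_, _, _⟩ := isUnivHomeo_iff.mp hs
  have hq : FlatMor.IsUnivHomeo (i ≫ pullback.snd ν π) :=
    isUnivHomeo_iff.mpr ⟨inferInstance, MorphismProperty.comp_mem @UniversallyInjective i _ inferInstance inferInstance, inferInstance⟩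
  have hqr : ResidueFieldsIso (i ≫ pullback.snd ν π) := fun z => by
    haveI : IsIso (i.residueFieldMap z) := (ConcreteCategory.isIso_iff_bijective _).mpr
      ⟨RingHom.injective _, surjective_residueFieldMap_of_isClosedImmersion i z⟩
    haveI := residueFieldsIso_pullback_snd ν π hν.1.2 (i z)
    rw [Scheme.residueFieldMap_comp]
    infer_instance
  haveI := isIso_of_isSeminormal hT hq hqr
  refine ⟨inv (i ≫ pullback.snd ν π) ≫ i ≫ pullback.fst ν π, ?_⟩
  rw [Category.assoc, Category.assoc, pullback.condition, ← Category.assoc i, IsIso.inv_hom_id_assoc]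

theorem dominant_and_finite {S Sn X' : Scheme.{u}} [IsLocallyNoetherian S] [IsReduced S] (π : Sn ⟶ S)
    [IsIntegralHom π]
    (hbir : ∃ U : S.Opens, Dense (U : Set S) ∧ Dense ((π ⁻¹ᵁ U : Sn.Opens) : Set Sn) ∧ IsIso (π ∣_ U))
    (ν : X' ⟶ S) (hν : FlatMor.IsUnivHomeo ν) (hX' : IsSeminormal X') (g : Sn ⟶ X') (hg : g ≫ ν = π) :
    (IsSchemeTheoreticallyDominant ν ∧ IsSchemeTheoreticallyDominant g) ∧
      (IsFinite π → IsFinite ν ∧ IsFinite g) := by
  haveI := isReduced_of_isSeminormal hX'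
  haveI := (isUnivHomeo_iff.mp hν).2.2
  haveI := isAffineHom_of_isUnivHomeo hν
  obtain ⟨U, hU, -, hiso⟩ := hbir
  haveI : IsDominant g := ⟨by
    have hπ : DenseRange π := hU.mono fun s hs => by
      obtain ⟨t, ht⟩ := (π ∣_ U).surjective ⟨s, hs⟩
      exact ⟨t.1, (morphismRestrict_base_coe π U t).symm.trans (congrArg Subtype.val ht)⟩
    have hh := isHomeomorph_of_isUnivHomeo hν
    intro x
    rw [mem_closure_iff]
    intro O hO hx
    obtain ⟨_, ⟨y, hy, hye⟩, z, rfl⟩ := mem_closure_iff.mp (hπ (ν x)) (ν '' O) (hh.isOpenMap O hO) ⟨x, hx, rfl⟩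
    refine ⟨g z, ?_, z, rfl⟩
    have : ν y = ν (g z) := by
      rw [hye, ← hg]
      rfl
    rwa [← hh.injective this]⟩
  haveI hνd := IsSchemeTheoreticallyDominant.of_isDominant ν
  haveI hgd := IsSchemeTheoreticallyDominant.of_isDominant g
  refine ⟨⟨hνd, hgd⟩, fun hfin => ?_⟩
  haveI : IsFinite (g ≫ ν) := hg.symm ▸ hfin
  haveI hgf : IsFinite g := IsFinite.of_comp g ν
  refine ⟨(isFinite_iff ν).mpr ⟨inferInstance, fun V hV => ?_⟩, hgf⟩
  haveI : IsNoetherianRing Γ(S, V) := IsLocallyNoetherian.component_noetherian ⟨V, hV⟩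
  have hC := IsFinite.finite_app (g ≫ ν) V hV
  rw [Scheme.Hom.comp_app, CommRingCat.hom_comp] at hC
  algebraize [(ν.app V).hom, (g.app (ν ⁻¹ᵁ V)).hom.comp (ν.app V).hom]
  let l : Γ(X', ν ⁻¹ᵁ V) →ₗ[Γ(S, V)] Γ(Sn, g ⁻¹ᵁ (ν ⁻¹ᵁ V)) :=
    { toFun := (g.app (ν ⁻¹ᵁ V)).hom
      map_add' := map_add _
      map_smul' := fun a b => map_mul (g.app (ν ⁻¹ᵁ V)).hom ((ν.app V).hom a) b }
  haveI : Module.Finite Γ(S, V) Γ(Sn, g ⁻¹ᵁ (ν ⁻¹ᵁ V)) := RingHom.finite_algebraMap.mp hC
  haveI : _root_.IsNoetherian Γ(S, V) Γ(Sn, g ⁻¹ᵁ (ν ⁻¹ᵁ V)) := isNoetherian_of_isNoetherianRing_of_finite _ _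
  exact RingHom.finite_algebraMap.mpr (Module.Finite.of_injective l (g.app_injective _))

end Groth.Agent.HTopAwn
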