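import Groth.Agent.HTopAwn.Scheme
import Groth.Agent.H23.RedSub

/-!
Absolutely weakly normal and seminormal schemes versus universal homeomorphisms.
-/

set_option backward.isDefEq.respectTransparency false
set_option backward.isDefEq.respectTransparency.types false

universe u

namespace Groth.Agent.HTopAwn

open AlgebraicGeometry CategoryTheory Limits Groth.Agent.MorLib Groth.Agent.MorLib.RUH HTop

section rings

variable {A B : Type u} [CommRing A] [CommRing B]

theorem seminormal_of_ringEquiv (e : A ≃+* B) (h : IsSeminormalRing A) : IsSeminormalRing B := by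
  intro x y hxy
  obtain ⟨a, ⟨hx, hy⟩, hu⟩ := h (e.symm x) (e.symm y) (by rw [← map_pow, ← map_pow, hxy])
  refine ⟨e a, ⟨?_, ?_⟩, fun b hb => ?_⟩
  · rw [← map_pow, ← hx, e.apply_symm_apply]
  · rw [← map_pow, ← hy, e.apply_symm_apply]
  · rw [← hu (e.symm b) ⟨by rw [hb.1, map_pow], by rw [hb.2, map_pow]⟩, e.apply_symm_apply]

theorem bijective_of_seminormal (hA : IsSeminormalRing A) [IsReduced B] (φ : A →+* B)
    (hinj : Function.Injective φ) (hu : FlatMor.IsUnivHomeo (Spec.map (CommRingCat.ofHom φ)))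
    (hres : ∀ q : Spec (CommRingCat.of B), Function.Surjective ((Spec.map (CommRingCat.ofHom φ)).residueFieldMap q)) :
    Function.Bijective φ := by
  refine ⟨hinj, fun b₀ => ?_⟩
  by_contra hb₀
  obtain ⟨hi, hr, -⟩ := (isUnivHomeo_SpecMap_iff φ).mp hu
  letI := φ.toAlgebra
  haveI : Algebra.IsIntegral A B := ⟨hi⟩
  obtain ⟨b, hb, hcase⟩ := exists_step (A := A) (B := B) hinj (injective_comap_of_radicial hr)
    (fun _ => False) (fun _ h => h.elim) (fun q b => by
      obtain ⟨a, s, hs, hmem⟩ := (residueFieldMap_surjective_iff φ q).mp (hres q) b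
      refine ⟨1, Or.inl rfl, 0, a, s, hs, ?_⟩
      rw [pow_zero, pow_one]
      exact hmem) b₀ hb₀
  rcases hcase with ⟨⟨x, hx⟩, ⟨y, hy⟩⟩ | ⟨e, he, -⟩
  · apply hb
    obtain ⟨a, ⟨ha2, ha3⟩, -⟩ := hA x y (hinj (by
      rw [map_pow, map_pow, show φ x = b ^ 2 from hx, show φ y = b ^ 3 from hy]; ring))
    exact ⟨a, eq_of_sq_cube (by rw [← hx, ha2, map_pow]) (by rw [← hy, ha3, map_pow])⟩
  · exact he

end rings

variable {X Y : Scheme.{u}}

theorem isReduced_of_isSeminormal (hX : IsSeminormal X) : IsReduced X := by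
  haveI : ∀ x : X, _root_.IsReduced (X.presheaf.stalk x) := fun x => by
    obtain ⟨⟨U, hU⟩, hxU, h⟩ := hX x
    haveI := isReduced_of_seminormal h
    letI : Algebra Γ(X, U) (X.presheaf.stalk x) := (X.presheaf.germ U x hxU).hom.toAlgebra
    haveI := hU.isLocalization_stalk ⟨x, hxU⟩
    exact isReduced_localizationPreserves (hU.primeIdealOf ⟨x, hxU⟩).asIdeal.primeCompl _ inferInstance
  exact isReduced_of_isReduced_stalk X

theorem isSeminormal_of_isAWN (hX : IsAWN X) : IsSeminormal X := fun x => by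
  obtain ⟨U, hx, h⟩ := hX x
  exact ⟨U, hx, h.1⟩

theorem injective_app_of_univHomeo [IsReduced X] {π : Y ⟶ X} (hπ : FlatMor.IsUnivHomeo π) {U : X.Opens}
    (hU : IsAffineOpen U) : Function.Injective (π.app U).hom := by
  rw [injective_iff_map_eq_zero]
  intro a ha
  refine IsNilpotent.eq_zero (nilpotent_iff_mem_prime.mpr fun J hJ => ?_)
  obtain ⟨q, hq⟩ := ((isUnivHomeo_SpecMap_iff (π.app U).hom).mp (isUnivHomeo_app_of_affine hπ hU)).2.2 ⟨J, hJ⟩
  rw [← show q.asIdeal.comap (π.app U).hom = J from congrArg PrimeSpectrum.asIdeal hq, Ideal.mem_comap, ha]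
  exact zero_mem _

/-- A universal homeomorphism is an isomorphism if it is bijective on rings of an affine cover. -/
theorem isIso_of_bijective_app {π : Y ⟶ X} (hπ : FlatMor.IsUnivHomeo π)
    (h : ∀ x : X, ∃ U : X.affineOpens, x ∈ (U : X.Opens) ∧ Function.Bijective (π.app (U : X.Opens)).hom) :
    IsIso π := by
  haveI := isAffineHom_of_isUnivHomeo hπ
  choose U hxU hb using h
  have hsup : (⨆ x, (U x : X.Opens)) = ⊤ :=
    top_le_iff.mp fun x _ => TopologicalSpace.Opens.mem_iSup.mpr ⟨x, hxU x⟩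
  refine (IsZariskiLocalAtTarget.iff_of_iSup_eq_top (P := MorphismProperty.isomorphisms Scheme) _ hsup).mpr fun x => ?_
  have hV : IsAffineOpen (π ⁻¹ᵁ (U x : X.Opens)) := (U x).2.preimage π
  haveI : IsIso (π.app (U x : X.Opens)) := (ConcreteCategory.isIso_iff_bijective _).mpr (hb x)
  haveI : IsOpenImmersion (U x).2.fromSpec := (U x).2.isOpenImmersion_fromSpec
  let e := IsOpenImmersion.isoOfRangeEq (π ⁻¹ᵁ (U x : X.Opens)).ι hV.fromSpec
    (by rw [Scheme.Opens.range_ι, hV.range_fromSpec])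
  rw [← MorphismProperty.cancel_left_of_respectsIso (MorphismProperty.isomorphisms Scheme) e.inv,
    ← MorphismProperty.cancel_right_of_respectsIso (MorphismProperty.isomorphisms Scheme) _ (U x).2.isoSpec.hom]
  convert! MorphismProperty.isomorphisms.infer_property (Spec.map (π.app (U x : X.Opens)))
  rw [← cancel_mono (U x).2.fromSpec]
  simp only [Category.assoc, IsAffineOpen.isoSpec_hom_fromSpec, morphismRestrict_ι]
  rw [← Category.assoc, show e.inv ≫ (π ⁻¹ᵁ (U x : X.Opens)).ι = hV.fromSpec from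
    IsOpenImmersion.isoOfRangeEq_inv_fac _ _ _, Scheme.Hom.app_eq_appLE,
    IsAffineOpen.SpecMap_appLE_fromSpec π (U x).2 hV le_rfl]

theorem isIso_of_isAWN [IsReduced Y] (hX : IsAWN X) {π : Y ⟶ X} (hπ : FlatMor.IsUnivHomeo π) : IsIso π := by
  haveI := isReduced_of_isSeminormal (isSeminormal_of_isAWN hX)
  refine isIso_of_bijective_app hπ fun x => ?_
  obtain ⟨U, hxU, h⟩ := hX x
  haveI := isAffineHom_of_isUnivHomeo hπ
  exact ⟨U, hxU, bijective_of_awn h _ (injective_app_of_univHomeo hπ U.2) (isUnivHomeo_app_of_affine hπ U.2)⟩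

theorem isAWN_of_isIso (e : Y ⟶ X) [IsIso e] (hY : IsAWN Y) : IsAWN X := by
  intro x
  obtain ⟨U, hxU, h⟩ := hY (inv e x)
  refine ⟨⟨((U : Y.Opens).ι ≫ e).opensRange, @isAffineOpen_opensRange _ _ U.2 ((U : Y.Opens).ι ≫ e) _⟩,
    ⟨⟨inv e x, hxU⟩, ?_⟩, ?_⟩
  · change (inv e ≫ e) x = x
    rw [IsIso.inv_hom_id]
    rfl
  · exact isAWNRing_of_ringEquiv ((U : Y.Opens).topIso.symm ≪≫
      (((U : Y.Opens).ι ≫ e).appIso ⊤).symm ≪≫
      X.presheaf.mapIso (eqToIso (Scheme.Hom.image_top_eq_opensRange ((U : Y.Opens).ι ≫ e)).symm).op).commRingCatIsoToRingEquiv h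

theorem exists_iso_awnScheme {X' : Scheme.{u}} {ν : X' ⟶ X} (hν : IsAWNormalization ν) :
    ∃ e : X' ⟶ awnScheme X, IsIso e ∧ e ≫ awnTo X = ν := by
  obtain ⟨e, he, -⟩ := hν.2 _ (awnTo X) (isUnivHomeo_awnTo X)
  obtain ⟨e', he', -⟩ := (isAWNormalization_awnTo X).2 _ ν hν.1
  obtain ⟨i, -, hi⟩ := hν.2 _ ν hν.1
  obtain ⟨j, -, hj⟩ := (isAWNormalization_awnTo X).2 _ (awnTo X) (isUnivHomeo_awnTo X)
  have h1 : e ≫ e' = 𝟙 X' :=
    (hi _ (show (e ≫ e') ≫ ν = ν by rw [Category.assoc, he', he])).trans (hi _ (Category.id_comp ν)).symm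
  have h2 : e' ≫ e = 𝟙 _ :=
    (hj _ (show (e' ≫ e) ≫ awnTo X = awnTo X by rw [Category.assoc, he, he'])).trans (hj _ (Category.id_comp _)).symm
  exact ⟨e, ⟨e', h1, h2⟩, he⟩

theorem isAWN_of_isAWNormalization {X' : Scheme.{u}} {ν : X' ⟶ X} (hν : IsAWNormalization ν) : IsAWN X' := by
  obtain ⟨e, he, -⟩ := exists_iso_awnScheme hν
  exact isAWN_of_isIso (inv e) (isAWN_awnScheme X)

theorem surjective_residueFieldMap_of_isClosedImmersion (f : Y ⟶ X) [IsClosedImmersion f] (y : Y) :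
    Function.Surjective (f.residueFieldMap y) := by
  intro z
  obtain ⟨a, rfl⟩ := Y.residue_surjective y z
  obtain ⟨b, rfl⟩ := f.stalkMap_surjective y a
  exact ⟨X.residue (f y) b, congr($(Scheme.residue_residueFieldMap f y) b)⟩

theorem isReduced_of_isSeminormalization {X' : Scheme.{u}} {ν : X' ⟶ X} (hν : IsSeminormalization ν) :
    IsReduced X' := by
  let i := X'.nilradical.subschemeι
  haveI := Groth.Agent.H23.RedSub.isReduced_nilradical X'
  haveI : Surjective i := ⟨by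
    rw [← Set.range_eq_univ, Scheme.IdealSheafData.range_subschemeι, Scheme.support_nilradical]; rfl⟩
  have hi : FlatMor.IsUnivHomeo i := isUnivHomeo_iff.mpr ⟨inferInstance, inferInstance, inferInstance⟩
  have hres : ResidueFieldsIso (i ≫ ν) := fun y => by
    haveI : IsIso (i.residueFieldMap y) := (ConcreteCategory.isIso_iff_bijective _).mpr
      ⟨RingHom.injective _, surjective_residueFieldMap_of_isClosedImmersion i y⟩
    haveI := hν.1.2 (i y)
    rw [Scheme.residueFieldMap_comp]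
    infer_instance
  haveI := (isUnivHomeo_iff.mp hν.1.1).1
  haveI := (isUnivHomeo_iff.mp hν.1.1).2.1
  haveI := (isUnivHomeo_iff.mp hν.1.1).2.2
  obtain ⟨r, hr, -⟩ := hν.2 _ (i ≫ ν) (isUnivHomeo_iff.mpr ⟨inferInstance, MorphismProperty.comp_mem @UniversallyInjective i ν (isUnivHomeo_iff.mp hi).2.1 (isUnivHomeo_iff.mp hν.1.1).2.1, inferInstance⟩) hres
  obtain ⟨u, -, hu⟩ := hν.2 _ ν hν.1.1 hν.1.2
  have h1 : r ≫ i = 𝟙 X' := (hu _ (show (r ≫ i) ≫ ν = ν by rw [Category.assoc, hr])).trans (hu _ (Category.id_comp ν)).symm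
  haveI : IsSplitEpi i := ⟨⟨r, h1⟩⟩
  haveI : IsIso i := isIso_of_mono_of_isSplitEpi i
  exact isReduced_of_isOpenImmersion (inv i)

theorem isIso_of_isSeminormalization {X' : Scheme.{u}} {ν : X' ⟶ X} (hν : IsSeminormalization ν)
    (hX : IsSeminormal X) : IsIso ν := by
  haveI := isReduced_of_isSeminormalization hν
  haveI := isReduced_of_isSeminormal hX
  haveI := isAffineHom_of_isUnivHomeo hν.1.1
  refine isIso_of_bijective_app hν.1.1 fun x => ?_
  obtain ⟨U, hxU, h⟩ := hX x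
  refine ⟨U, hxU, bijective_of_seminormal h _ (injective_app_of_univHomeo hν.1.1 U.2)
    (isUnivHomeo_app_of_affine hν.1.1 U.2) fun q => ?_⟩
  have hV : IsAffineOpen (ν ⁻¹ᵁ (U : X.Opens)) := U.2.preimage ν
  have hc : Spec.map (ν.app (U : X.Opens)) ≫ U.2.fromSpec = hV.fromSpec ≫ ν := by
    rw [Scheme.Hom.app_eq_appLE, IsAffineOpen.SpecMap_appLE_fromSpec ν U.2 hV le_rfl]
  haveI : IsOpenImmersion U.2.fromSpec := U.2.isOpenImmersion_fromSpec
  haveI : IsOpenImmersion hV.fromSpec := hV.isOpenImmersion_fromSpec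
  haveI := hν.1.2 (hV.fromSpec q)
  have hcomp : IsIso ((Spec.map (ν.app (U : X.Opens)) ≫ U.2.fromSpec).residueFieldMap q) := by
    rw [hc, Scheme.residueFieldMap_comp]
    infer_instance
  rw [Scheme.residueFieldMap_comp] at hcomp
  haveI := hcomp
  haveI := IsIso.of_isIso_comp_left (U.2.fromSpec.residueFieldMap (Spec.map (ν.app (U : X.Opens)) q))
    ((Spec.map (ν.app (U : X.Opens))).residueFieldMap q)
  exact ((ConcreteCategory.isIso_iff_bijective ((Spec.map (ν.app (U : X.Opens))).residueFieldMap q)).mp inferInstance).2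

end Groth.Agent.HTopAwn
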