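import Groth.Prelude.Def_HTop2
import Groth.Agent.MorLib.RingUnivHomeo
import Mathlib.FieldTheory.IsAlgClosed.AlgebraicClosure
import Mathlib.RingTheory.Algebraic.Integral

/-!
Absolute weak normalization of rings: existence via the product of algebraic closures of residue
fields, and absolutely weakly normal rings.
-/

universe u

namespace Groth.Agent.HTopAwn

open AlgebraicGeometry CategoryTheory Groth.Agent.MorLib.RUH HTop

variable {A B C : Type u} [CommRing A] [CommRing B] [CommRing C]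

/-- Integral and radicial. -/
def Good (φ : A →+* B) : Prop := φ.IsIntegral ∧ Radicial φ

theorem good_of_isUnivHomeo {φ : A →+* B} (h : FlatMor.IsUnivHomeo (Spec.map (CommRingCat.ofHom φ))) :
    Good φ :=
  ⟨((isUnivHomeo_SpecMap_iff φ).mp h).1, ((isUnivHomeo_SpecMap_iff φ).mp h).2.1⟩

/-- Extend a field valued point along an integral map. -/
theorem exists_extension (ι : C →+* B) (hι : ι.IsIntegral) {K : Type u} [Field K] [IsAlgClosed K]
    (f : C →+* K) (hq : ∃ q : PrimeSpectrum B, q.asIdeal.comap ι = RingHom.ker f) :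
    ∃ F : B →+* K, F.comp ι = f := by
  obtain ⟨q, hq⟩ := hq
  let P := q.asIdeal.comap ι
  haveI : P.IsPrime := Ideal.IsPrime.comap _
  let i : C ⧸ P →+* B ⧸ q.asIdeal := Ideal.quotientMap q.asIdeal ι le_rfl
  let j : C ⧸ P →+* K := Ideal.Quotient.lift P f fun a ha => by rwa [← RingHom.mem_ker, ← hq]
  letI := i.toAlgebra
  letI := j.toAlgebra
  haveI : FaithfulSMul (C ⧸ P) (B ⧸ q.asIdeal) :=
    (faithfulSMul_iff_algebraMap_injective _ _).mpr Ideal.quotientMap_injective
  haveI : Module.IsTorsionFree (C ⧸ P) K :=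
    Module.isTorsionFree_iff_faithfulSMul.mpr
      ((faithfulSMul_iff_algebraMap_injective _ _).mpr
        ((injective_iff_map_eq_zero _).mpr fun z hz => by
        obtain ⟨c, rfl⟩ := Ideal.Quotient.mk_surjective z
        rw [Ideal.Quotient.eq_zero_iff_mem, show P = RingHom.ker f from hq, RingHom.mem_ker]
        exact hz))
  haveI : Algebra.IsIntegral (C ⧸ P) (B ⧸ q.asIdeal) := ⟨fun z => by
    obtain ⟨b, rfl⟩ := Ideal.Quotient.mk_surjective z
    obtain ⟨p, hp, hp0⟩ := hι b
    refine ⟨p.map (Ideal.Quotient.mk P), hp.map _, ?_⟩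
    rw [Polynomial.eval₂_map, show (algebraMap (C ⧸ P) (B ⧸ q.asIdeal)).comp (Ideal.Quotient.mk P) =
      (Ideal.Quotient.mk q.asIdeal).comp ι from RingHom.ext fun a => rfl, ← Polynomial.hom_eval₂, hp0,
      map_zero]⟩
  let L : B ⧸ q.asIdeal →ₐ[C ⧸ P] K := IsAlgClosed.lift
  exact ⟨L.toRingHom.comp (Ideal.Quotient.mk _), RingHom.ext fun c => L.commutes (Ideal.Quotient.mk P c)⟩

theorem radicial_of_injective_comp {ψ : A →+* C} {ι : C →+* B} (hinj : Function.Injective ι)
    (hι : ι.IsIntegral) (hr : Radicial (ι.comp ψ)) : Radicial ψ := by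
  intro K _ f g hfg
  let K' := AlgebraicClosure K
  let e := algebraMap K K'
  obtain ⟨q, hq⟩ := hι.comap_surjective hinj ⟨_, RingHom.ker_isPrime (e.comp f)⟩
  obtain ⟨q', hq'⟩ := hι.comap_surjective hinj ⟨_, RingHom.ker_isPrime (e.comp g)⟩
  obtain ⟨F, hF⟩ := exists_extension ι hι (e.comp f) ⟨q, congrArg PrimeSpectrum.asIdeal hq⟩
  obtain ⟨G, hG⟩ := exists_extension ι hι (e.comp g) ⟨q', congrArg PrimeSpectrum.asIdeal hq'⟩
  have hFG : F = G := hr K' F G (by
    rw [← RingHom.comp_assoc, ← RingHom.comp_assoc, hF, hG, RingHom.comp_assoc, RingHom.comp_assoc, hfg])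
  refine RingHom.ext fun c => e.injective ?_
  have := RingHom.congr_fun (hF.symm.trans ((congrArg (fun H : B →+* K' => H.comp ι) hFG).trans hG)) c
  exact this

theorem good_subalgebra [Algebra A B] (C : Subalgebra A B) (h : Good (algebraMap A B)) :
    Good (algebraMap A C) :=
  ⟨fun x => (isIntegral_algHom_iff C.val Subtype.val_injective).mp (h.1 (x : B)),
    radicial_of_injective_comp (ι := C.val.toRingHom) Subtype.val_injective
      (RingHom.IsIntegral.tower_top (algebraMap A C) C.val.toRingHom h.1) h.2⟩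

theorem good_adjoin [Algebra A B] (T : Set B) (hint : ∀ x ∈ T, IsIntegral A x)
    (hrad : ∀ (K : Type u) [Field K] (f g : Algebra.adjoin A T →+* K),
      f.comp (algebraMap A (Algebra.adjoin A T)) = g.comp (algebraMap A (Algebra.adjoin A T)) →
        ∀ x (hx : x ∈ T), f ⟨x, Algebra.subset_adjoin hx⟩ = g ⟨x, Algebra.subset_adjoin hx⟩) :
    Good (algebraMap A (Algebra.adjoin A T)) := by
  refine ⟨fun x => (isIntegral_algHom_iff (Algebra.adjoin A T).val Subtype.val_injective).mp
    (Algebra.adjoin_le (S := integralClosure A B) hint x.2), fun K _ f g h => RingHom.ext ?_⟩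
  rintro ⟨x, hx⟩
  induction hx using Algebra.adjoin_induction with
  | mem x hx => exact hrad K f g h x hx
  | algebraMap a => exact RingHom.congr_fun h a
  | add x y hx hy h1 h2 => exact (map_add f ⟨x, hx⟩ ⟨y, hy⟩).trans ((congrArg₂ (· + ·) h1 h2).trans (map_add g ⟨x, hx⟩ ⟨y, hy⟩).symm)
  | mul x y hx hy h1 h2 => exact (map_mul f ⟨x, hx⟩ ⟨y, hy⟩).trans ((congrArg₂ (· * ·) h1 h2).trans (map_mul g ⟨x, hx⟩ ⟨y, hy⟩).symm)

section model

variable (A)

/-- The product of algebraic closures of the residue fields. -/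
abbrev Pts : Type u := ∀ p : PrimeSpectrum A, AlgebraicClosure p.asIdeal.ResidueField

/-- The absolute weak normalization, inside the product of algebraic closures. -/
noncomputable def awn : Subalgebra A (Pts A) :=
  Algebra.adjoin A {x | ∃ C : Subalgebra A (Pts A), Good (algebraMap A C) ∧ x ∈ C}

/-- Evaluation at a point. -/
noncomputable def evPt (p : PrimeSpectrum A) : awn A →+* AlgebraicClosure p.asIdeal.ResidueField :=
  (Pi.evalRingHom _ p).comp (awn A).val.toRingHom

theorem le_awn {C : Subalgebra A (Pts A)} (h : Good (algebraMap A C)) : C ≤ awn A :=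
  fun _ hx => Algebra.subset_adjoin ⟨C, h, hx⟩

theorem good_awn : Good (algebraMap A (awn A)) := by
  refine good_adjoin _ ?_ ?_
  · rintro x ⟨C, hC, hx⟩
    exact (isIntegral_algHom_iff C.val Subtype.val_injective (x := (⟨x, hx⟩ : C))).mpr (hC.1 _)
  · rintro K _ f g h x ⟨C, hC, hx⟩
    exact RingHom.congr_fun (hC.2 K (f.comp (Subalgebra.inclusion (le_awn A hC)).toRingHom)
      (g.comp (Subalgebra.inclusion (le_awn A hC)).toRingHom) (RingHom.ext fun a => RingHom.congr_fun h a)) ⟨x, hx⟩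

theorem ker_algebraMap_pt (p : PrimeSpectrum A) :
    RingHom.ker (algebraMap A (AlgebraicClosure p.asIdeal.ResidueField)) = p.asIdeal := by
  rw [IsScalarTower.algebraMap_eq A p.asIdeal.ResidueField,
    RingHom.ker_comp_of_injective _ (RingHom.injective _), Ideal.ker_algebraMap_residueField]

theorem isUnivHomeo_awn : FlatMor.IsUnivHomeo (Spec.map (CommRingCat.ofHom (algebraMap A (awn A)))) :=
  (isUnivHomeo_SpecMap_iff _).mpr ⟨(good_awn A).1, (good_awn A).2, fun p =>
    ⟨⟨RingHom.ker (evPt A p), RingHom.ker_isPrime _⟩, PrimeSpectrum.ext (by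
      change (RingHom.ker (evPt A p)).comap (algebraMap A (awn A)) = p.asIdeal
      rw [RingHom.comap_ker]
      exact ker_algebraMap_pt A p)⟩⟩

theorem isReduced_awn : IsReduced (awn A) :=
  isReduced_of_injective (awn A).val Subtype.val_injective

theorem isRingAWN_awn : IsRingAWN (algebraMap A (awn A)) := by
  refine ⟨isUnivHomeo_awn A, fun C _ ψ hψ => ?_⟩
  obtain ⟨hi, hr, hs⟩ := (isUnivHomeo_SpecMap_iff ψ).mp hψ
  choose F hF using fun p : PrimeSpectrum A => exists_extension ψ hi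
    (algebraMap A (AlgebraicClosure p.asIdeal.ResidueField)) (by
      obtain ⟨q, hq⟩ := hs p
      exact ⟨q, by rw [ker_algebraMap_pt]; exact congrArg PrimeSpectrum.asIdeal hq⟩)
  letI := ψ.toAlgebra
  let θ : C →ₐ[A] Pts A :=
    { Pi.ringHom F with commutes' := fun a => funext fun p => RingHom.congr_fun (hF p) a }
  have hgood : Good (algebraMap A θ.range) := by
    refine ⟨fun x => ?_, fun K _ f g h => RingHom.ext fun x => ?_⟩
    · obtain ⟨c, hc⟩ := x.2
      obtain rfl : θ.rangeRestrict c = x := Subtype.ext hc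
      exact IsIntegral.map θ.rangeRestrict (show _root_.IsIntegral A c from hi c)
    · obtain ⟨c, hc⟩ := x.2
      obtain rfl : θ.rangeRestrict c = x := Subtype.ext hc
      exact RingHom.congr_fun (hr K (f.comp θ.rangeRestrict.toRingHom) (g.comp θ.rangeRestrict.toRingHom)
        (RingHom.ext fun a => by
          have e : θ.rangeRestrict (ψ a) = algebraMap A θ.range a := θ.rangeRestrict.commutes a
          simp only [RingHom.comp_apply, AlgHom.toRingHom_eq_coe, RingHom.coe_coe, e]
          exact RingHom.congr_fun h a)) c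
  refine ⟨θ.toRingHom.codRestrict (awn A) fun c => le_awn A hgood ⟨c, rfl⟩,
    RingHom.ext fun a => Subtype.ext (funext fun p => RingHom.congr_fun (hF p) a), fun χ hχ => ?_⟩
  refine RingHom.ext fun c => Subtype.ext (funext fun p => ?_)
  exact RingHom.congr_fun (hr _ ((evPt A p).comp χ) (F p) (by
    rw [RingHom.comp_assoc, hχ, hF]; rfl)) c

end model

theorem eq_of_sq_cube [IsReduced B] {a b : B} (h2 : a ^ 2 = b ^ 2) (h3 : a ^ 3 = b ^ 3) : a = b :=
  sub_eq_zero.mp (IsNilpotent.eq_zero ⟨3, by linear_combination 4 * h3 - 3 * b * h2 - 3 * a * h2⟩)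

theorem eq_zero_of_pow_sub [IsReduced B] {p : ℕ} (hp : p.Prime) {a b : B} (h1 : a ^ p = b ^ p)
    (h2 : (p : B) * a = p * b) : a = b := by
  rw [← sub_eq_zero]
  refine IsNilpotent.eq_zero (nilpotent_iff_mem_prime.mpr fun J hJ => ?_)
  rw [← Ideal.Quotient.eq_zero_iff_mem, map_sub, sub_eq_zero]
  have e1 := congrArg (Ideal.Quotient.mk J) h1
  have e2 := congrArg (Ideal.Quotient.mk J) h2
  simp only [map_mul, map_pow, map_natCast] at e1 e2
  by_cases h0 : (p : B ⧸ J) = 0
  · haveI : CharP (B ⧸ J) p := (CharP.charP_iff_prime_eq_zero hp).mpr h0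
    haveI : Fact p.Prime := ⟨hp⟩
    exact frobenius_inj (B ⧸ J) p e1
  · exact mul_left_cancel₀ h0 e2

theorem isReduced_of_seminormal (h : IsSeminormalRing A) : IsReduced A := by
  refine ⟨fun x hx => ?_⟩
  have h2 : ∀ z : A, z ^ 2 = 0 → z = 0 := fun z hz => by
    obtain ⟨a, -, hu⟩ := h 0 0 (by simp)
    rw [hu z ⟨hz.symm, by rw [pow_succ, hz, zero_mul]⟩, hu 0 ⟨by simp, by simp⟩]
  obtain ⟨n, hn⟩ := hx
  induction n using Nat.strong_induction_on generalizing x with
  | _ n ih =>
    rcases n with _ | _ | n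
    · rw [← mul_one x, ← pow_zero x, hn, mul_zero]
    · rwa [pow_one] at hn
    · refine h2 x ?_
      refine ih (n + 1) (by omega) (x ^ 2) ?_
      rw [← pow_mul]
      exact pow_eq_zero_of_le (by omega) hn

theorem bijective_of_awn (hA : IsAWNRing A) [IsReduced B] (φ : A →+* B) (hinj : Function.Injective φ)
    (hu : FlatMor.IsUnivHomeo (Spec.map (CommRingCat.ofHom φ))) : Function.Bijective φ := by
  refine ⟨hinj, fun b₀ => ?_⟩
  by_contra hb₀
  obtain ⟨hi, hr, -⟩ := (isUnivHomeo_SpecMap_iff φ).mp hu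
  letI := φ.toAlgebra
  haveI : Algebra.IsIntegral A B := ⟨hi⟩
  obtain ⟨b, hb, hcase⟩ := exists_step (A := A) (B := B) hinj (injective_comap_of_radicial hr)
    Nat.Prime (fun e he => he.two_le) (exists_pow_of_radicial φ hr) b₀ hb₀
  apply hb
  rcases hcase with ⟨⟨x, hx⟩, ⟨y, hy⟩⟩ | ⟨e, he, ⟨y, hy⟩, ⟨x, hx⟩⟩
  · obtain ⟨a, ⟨ha2, ha3⟩, -⟩ := hA.1 x y (hinj (by
      rw [map_pow, map_pow, show φ x = b ^ 2 from hx, show φ y = b ^ 3 from hy]; ring))
    exact ⟨a, eq_of_sq_cube (by rw [← hx, ha2, map_pow]) (by rw [← hy, ha3, map_pow])⟩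
  · obtain ⟨a, ⟨hax, hay⟩, -⟩ := hA.2 e he x y (hinj (by
      rw [map_mul, map_pow, map_pow, map_natCast, show φ x = b ^ e from hx,
        show φ y = (e : B) * b from hy, mul_pow]))
    exact ⟨a, eq_zero_of_pow_sub he (by rw [← hx, hax, map_pow]) (by rw [← hy, hay, map_mul, map_natCast])⟩

theorem isAWNRing_awn (A : Type u) [CommRing A] : IsAWNRing (awn A) := by
  classical
  haveI := isReduced_awn A
  have key : ∀ (a : Pts A), IsIntegral A a →
      (∀ (C : Subalgebra A (Pts A)) (hC : awn A ≤ C) (haC : a ∈ C) (K : Type u) [Field K] (f g : C →+* K),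
        f.comp (Subalgebra.inclusion hC).toRingHom = g.comp (Subalgebra.inclusion hC).toRingHom →
          f ⟨a, haC⟩ = g ⟨a, haC⟩) → a ∈ awn A := by
    intro a ha h
    refine le_awn A (C := Algebra.adjoin A ((awn A : Set (Pts A)) ∪ {a})) ?_
      (Algebra.subset_adjoin (Or.inr rfl))
    refine good_adjoin _ ?_ ?_
    · rintro x (hx | rfl)
      · exact (isIntegral_algHom_iff (awn A).val Subtype.val_injective (x := (⟨x, hx⟩ : awn A))).mpr ((good_awn A).1 _)
      · exact ha
    · intro K _ f g hfg x hx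
      have hle : awn A ≤ Algebra.adjoin A ((awn A : Set (Pts A)) ∪ {a}) :=
        fun z hz => Algebra.subset_adjoin (Or.inl hz)
      have hfg' := (good_awn A).2 K (f.comp (Subalgebra.inclusion hle).toRingHom)
        (g.comp (Subalgebra.inclusion hle).toRingHom) (RingHom.ext fun z => RingHom.congr_fun hfg z)
      rcases hx with hx | rfl
      · exact RingHom.congr_fun hfg' ⟨x, hx⟩
      · exact h _ hle _ K f g hfg'
  refine ⟨fun x y hxy => ?_, fun l hl x y hxy => ?_⟩
  · let a : Pts A := fun p => (y : Pts A) p / (x : Pts A) p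
    have hp : ∀ p, (x : Pts A) p ^ 3 = (y : Pts A) p ^ 2 := fun p => congrFun (congrArg Subtype.val hxy) p
    have h23 : a ^ 2 = x ∧ a ^ 3 = y := by
      constructor <;> funext p <;> simp only [a, Pi.pow_apply, div_pow] <;>
        by_cases h0 : (x : Pts A) p = 0
      · have := hp p
        rw [h0, zero_pow (by norm_num), eq_comm, pow_eq_zero_iff (by norm_num)] at this
        simp [h0, this]
      · rw [← hp p]; field_simp
      · have := hp p
        rw [h0, zero_pow (by norm_num), eq_comm, pow_eq_zero_iff (by norm_num)] at this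
        simp [h0, this]
      · rw [hp p]; field_simp
    have ha : a ∈ awn A := by
      refine key a (IsIntegral.of_pow (n := 2) (by norm_num) ?_) ?_
      · rw [h23.1]
        exact (isIntegral_algHom_iff (awn A).val Subtype.val_injective).mpr ((good_awn A).1 x)
      · intro C hC haC K _ f g hfg
        have ex : (⟨a, haC⟩ : C) ^ 2 = Subalgebra.inclusion hC x := Subtype.ext h23.1
        have ey : (⟨a, haC⟩ : C) ^ 3 = Subalgebra.inclusion hC y := Subtype.ext h23.2
        refine eq_of_sq_cube ?_ ?_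
        · rw [← map_pow, ← map_pow, ex]; exact RingHom.congr_fun hfg x
        · rw [← map_pow, ← map_pow, ey]; exact RingHom.congr_fun hfg y
    refine ⟨⟨a, ha⟩, ⟨Subtype.ext h23.1.symm, Subtype.ext h23.2.symm⟩, fun b hb => ?_⟩
    exact eq_of_sq_cube (hb.1.symm.trans (Subtype.ext h23.1.symm)) (hb.2.symm.trans (Subtype.ext h23.2.symm))
  · let a : Pts A := fun p =>
      if h0 : (l : AlgebraicClosure p.asIdeal.ResidueField) = 0 then
        (IsAlgClosed.exists_pow_nat_eq ((x : Pts A) p) hl.pos).choose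
      else (y : Pts A) p / l
    have hp : ∀ p, (l : AlgebraicClosure p.asIdeal.ResidueField) ^ l * (x : Pts A) p = (y : Pts A) p ^ l :=
      fun p => by simpa using congrFun (congrArg Subtype.val hxy) p
    have hla : a ^ l = x ∧ (l : Pts A) * a = y := by
      constructor <;> funext p <;> simp only [a, Pi.pow_apply, Pi.mul_apply, Pi.natCast_apply] <;>
        split_ifs with h0
      · exact (IsAlgClosed.exists_pow_nat_eq ((x : Pts A) p) hl.pos).choose_spec
      · rw [div_pow, ← hp p, mul_div_cancel_left₀ _ (pow_ne_zero _ h0)]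
      · have := hp p
        rw [h0, zero_pow hl.ne_zero, zero_mul, eq_comm, pow_eq_zero_iff hl.ne_zero] at this
        rw [h0, zero_mul, this]
      · rw [mul_div_cancel₀ _ h0]
    have ha : a ∈ awn A := by
      refine key a (IsIntegral.of_pow hl.pos ?_) ?_
      · rw [hla.1]
        exact (isIntegral_algHom_iff (awn A).val Subtype.val_injective).mpr ((good_awn A).1 x)
      · intro C hC haC K _ f g hfg
        have ex : (⟨a, haC⟩ : C) ^ l = Subalgebra.inclusion hC x := Subtype.ext hla.1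
        have ey : (l : C) * ⟨a, haC⟩ = Subalgebra.inclusion hC y := Subtype.ext (by simpa using hla.2)
        refine eq_zero_of_pow_sub hl ?_ ?_
        · rw [← map_pow, ← map_pow, ex]; exact RingHom.congr_fun hfg x
        · rw [← map_natCast f, ← map_mul f, ey, map_natCast f, ← map_natCast g, ← map_mul g, ey]
          exact RingHom.congr_fun hfg y
    have e1 : x = (⟨a, ha⟩ : awn A) ^ l := Subtype.ext hla.1.symm
    have e2 : y = (l : awn A) * ⟨a, ha⟩ := Subtype.ext (by simpa using hla.2.symm)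
    exact ⟨⟨a, ha⟩, ⟨e1, e2⟩, fun b hb =>
      eq_zero_of_pow_sub hl (hb.1.symm.trans e1) (hb.2.symm.trans e2)⟩

theorem isAWNRing_of_ringEquiv (e : A ≃+* B) (h : IsAWNRing A) : IsAWNRing B := by
  refine ⟨fun x y hxy => ?_, fun p hp x y hxy => ?_⟩
  · obtain ⟨a, ⟨hx, hy⟩, hu⟩ := h.1 (e.symm x) (e.symm y) (by rw [← map_pow, ← map_pow, hxy])
    refine ⟨e a, ⟨?_, ?_⟩, fun b hb => ?_⟩
    · rw [← map_pow, ← hx, e.apply_symm_apply]
    · rw [← map_pow, ← hy, e.apply_symm_apply]
    · rw [← hu (e.symm b) ⟨by rw [hb.1, map_pow], by rw [hb.2, map_pow]⟩, e.apply_symm_apply]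
  · obtain ⟨a, ⟨hx, hy⟩, hu⟩ := h.2 p hp (e.symm x) (e.symm y) (by
      rw [← map_pow e.symm, ← map_natCast e.symm p, ← map_pow e.symm, ← map_mul, hxy])
    refine ⟨e a, ⟨?_, ?_⟩, fun b hb => ?_⟩
    · rw [← map_pow, ← hx, e.apply_symm_apply]
    · rw [← map_natCast e, ← map_mul, ← hy, e.apply_symm_apply]
    · rw [← hu (e.symm b) ⟨by rw [hb.1, map_pow], by rw [hb.2, map_mul, map_natCast]⟩, e.apply_symm_apply]

/-- Comparison with the model. -/
theorem exists_equiv_awn {φ : A →+* B} (hφ : IsRingAWN φ) :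
    ∃ e : B ≃+* awn A, e.toRingHom.comp φ = algebraMap A (awn A) := by
  obtain ⟨χ, hχ, -⟩ := (isRingAWN_awn A).2 B φ hφ.1
  obtain ⟨χ', hχ', -⟩ := hφ.2 (awn A) (algebraMap A (awn A)) (isUnivHomeo_awn A)
  have h1 : χ.comp χ' = RingHom.id _ := by
    obtain ⟨i, -, hu⟩ := (isRingAWN_awn A).2 (awn A) (algebraMap A (awn A)) (isUnivHomeo_awn A)
    rw [hu (χ.comp χ') (by change (χ.comp χ').comp _ = _; rw [RingHom.comp_assoc, hχ', hχ]), hu (RingHom.id _) (RingHom.id_comp _)]
  have h2 : χ'.comp χ = RingHom.id _ := by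
    obtain ⟨i, -, hu⟩ := hφ.2 B φ hφ.1
    rw [hu (χ'.comp χ) (by change (χ'.comp χ).comp _ = _; rw [RingHom.comp_assoc, hχ, hχ']), hu (RingHom.id _) (RingHom.id_comp _)]
  exact ⟨RingEquiv.ofRingHom χ χ' h1 h2, hχ⟩

theorem isAWNRing_of_isRingAWN {φ : A →+* B} (hφ : IsRingAWN φ) : IsAWNRing B := by
  obtain ⟨e, -⟩ := exists_equiv_awn hφ
  exact isAWNRing_of_ringEquiv e.symm (isAWNRing_awn A)

theorem isRingAWN_of_awn (φ : A →+* B) (hu : FlatMor.IsUnivHomeo (Spec.map (CommRingCat.ofHom φ)))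
    (hB : IsAWNRing B) : IsRingAWN φ := by
  obtain ⟨χ, hχ, -⟩ := (isRingAWN_awn A).2 B φ hu
  haveI := isReduced_awn A
  haveI := isReduced_of_seminormal hB.1
  obtain ⟨hi, hr, hs⟩ := (isUnivHomeo_SpecMap_iff _).mp (isUnivHomeo_awn A)
  have hcomp : PrimeSpectrum.comap φ ∘ PrimeSpectrum.comap χ = PrimeSpectrum.comap (algebraMap A (awn A)) := by
    rw [← hχ]; exact (PrimeSpectrum.comap_comp φ χ).symm
  have hsχ : Function.Surjective (PrimeSpectrum.comap χ) := by
    intro q
    obtain ⟨Q, hQ⟩ := hs (PrimeSpectrum.comap φ q)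
    refine ⟨Q, injective_comap_of_radicial (good_of_isUnivHomeo hu).2 ?_⟩
    rw [← hQ, ← hcomp]
    rfl
  have hχu : FlatMor.IsUnivHomeo (Spec.map (CommRingCat.ofHom χ)) := by
    refine (isUnivHomeo_SpecMap_iff χ).mpr ⟨RingHom.IsIntegral.tower_top φ χ (hχ ▸ hi), fun K _ f g h => ?_, hsχ⟩
    exact hr K f g (by rw [← hχ, ← RingHom.comp_assoc, ← RingHom.comp_assoc, h])
  have hinj : Function.Injective χ := by
    rw [injective_iff_map_eq_zero]
    intro b hb
    refine IsNilpotent.eq_zero (nilpotent_iff_mem_prime.mpr fun J hJ => ?_)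
    obtain ⟨Q, hQ⟩ := hsχ ⟨J, hJ⟩
    rw [← show Q.asIdeal.comap χ = J from congrArg PrimeSpectrum.asIdeal hQ, Ideal.mem_comap, hb]
    exact zero_mem _
  let e := RingEquiv.ofBijective χ (bijective_of_awn hB χ hinj hχu)
  refine ⟨hu, fun C _ ψ hψ => ?_⟩
  obtain ⟨w, hw, huw⟩ := (isRingAWN_awn A).2 C ψ hψ
  refine ⟨e.symm.toRingHom.comp w, RingHom.ext fun a => e.injective ?_, fun v hv => ?_⟩
  · exact (e.apply_symm_apply _).trans ((RingHom.congr_fun hw a).trans (RingHom.congr_fun hχ a).symm)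
  · rw [← huw (χ.comp v) (by change (χ.comp v).comp _ = _; rw [RingHom.comp_assoc, hv, hχ])]
    exact RingHom.ext fun c => (e.symm_apply_apply _).symm

end Groth.Agent.HTopAwn
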