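import Groth.Agent.MorLib.UnivHomeo
import Groth.Prelude.Def_HTop2
import Mathlib.AlgebraicGeometry.Morphisms.Proper
import Mathlib.AlgebraicGeometry.Morphisms.Separated

/-!
Factorization of morphisms out of a universal homeomorphism through finite levels, by scheme-theoretic images.
-/

set_option backward.isDefEq.respectTransparency false
set_option backward.isDefEq.respectTransparency.types false

universe u

namespace Groth.Agent.HTopAwn

open AlgebraicGeometry CategoryTheory Limits Scheme Groth.Agent.MorLib HTop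

variable {T' W T S X : Scheme.{u}}

theorem residueFieldsIso_of_comp (f : T' ⟶ W) (g : W ⟶ T) [Surjective f] (h : ResidueFieldsIso (f ≫ g)) :
    ResidueFieldsIso g := by
  intro w
  obtain ⟨t, rfl⟩ := f.surjective w
  have h1 : Function.Bijective (g.residueFieldMap (f t) ≫ f.residueFieldMap t) := by
    rw [← Scheme.residueFieldMap_comp]
    exact (ConcreteCategory.isIso_iff_bijective _).mp (h t)
  refine (ConcreteCategory.isIso_iff_bijective _).mpr ⟨RingHom.injective _, fun y => ?_⟩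
  obtain ⟨a, ha⟩ := h1.2 (f.residueFieldMap t y)
  exact ⟨a, RingHom.injective (f.residueFieldMap t).hom ha⟩

/-- The scheme-theoretic image of a morphism over `T` whose source is universally homeomorphic to `T` is finite
and universally homeomorphic to `T`. -/
theorem image_props (h : T' ⟶ W) (p : W ⟶ T) [IsSeparated p] [LocallyOfFiniteType p]
    (hν : FlatMor.IsUnivHomeo (h ≫ p)) :
    IsFinite (h.imageι ≫ p) ∧ FlatMor.IsUnivHomeo (h.imageι ≫ p) ∧
      (ResidueFieldsIso (h ≫ p) → ResidueFieldsIso (h.imageι ≫ p)) := by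
  obtain ⟨hc, hi, hs⟩ := isUnivHomeo_iff.mp hν
  haveI : UniversallyClosed h := UniversallyClosed.of_comp_of_isSeparated h p
  haveI : Surjective h.toImage := Surjective.of_universallyClosed_of_isDominant h.toImage
  have e : h.toImage ≫ h.imageι ≫ p = h ≫ p := by rw [← Category.assoc, h.toImage_imageι]
  haveI : UniversallyClosed (h.toImage ≫ h.imageι ≫ p) := e.symm ▸ hc
  haveI : UniversallyClosed (h.imageι ≫ p) := UniversallyClosed.of_comp_surjective h.toImage _
  haveI : UniversallyInjective (h.imageι ≫ p) := by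
    haveI : UniversallyInjective (h.toImage ≫ h.imageι ≫ p) := e.symm ▸ hi
    exact universallyInjective_of_comp_surjective h.toImage _ inferInstance
  haveI : Surjective (h.toImage ≫ h.imageι ≫ p) := e.symm ▸ hs
  haveI : Surjective (h.imageι ≫ p) := Surjective.of_comp h.toImage _
  have hu : FlatMor.IsUnivHomeo (h.imageι ≫ p) := isUnivHomeo_iff.mpr ⟨inferInstance, inferInstance, inferInstance⟩
  haveI := isAffineHom_of_isUnivHomeo hu
  haveI : IsProper (h.imageι ≫ p) := { }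
  refine ⟨IsFinite.iff_isProper_and_isAffineHom.mpr ⟨inferInstance, inferInstance⟩, hu, fun hr => ?_⟩
  exact residueFieldsIso_of_comp h.toImage _ (e.symm ▸ hr)

/-- Two morphisms from a scheme-theoretic image to a separated scheme agreeing on the source are equal. -/
theorem image_hom_ext (h : T' ⟶ W) [X.IsSeparated] {a b : h.image ⟶ X} (e : h.toImage ≫ a = h.toImage ≫ b) :
    a = b := by
  let i := equalizer.ι a b
  let l := equalizer.lift h.toImage e
  have hl : l ≫ i ≫ h.imageι = h := by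
    rw [← Category.assoc, equalizer.lift_ι, h.toImage_imageι]
  have hle : (i ≫ h.imageι).ker ≤ h.imageι.ker := by
    calc (i ≫ h.imageι).ker ≤ (l ≫ i ≫ h.imageι).ker := Scheme.Hom.le_ker_comp _ _
      _ = h.imageι.ker := by rw [hl, Scheme.IdealSheafData.ker_subschemeι]
  let s := IsClosedImmersion.lift (i ≫ h.imageι) h.imageι hle
  have hs : s ≫ i = 𝟙 _ := by
    rw [← cancel_mono h.imageι, Category.assoc, IsClosedImmersion.lift_fac, Category.id_comp]
  calc a = s ≫ i ≫ a := by rw [← Category.assoc, hs, Category.id_comp]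
    _ = s ≫ i ≫ b := by rw [equalizer.condition]
    _ = b := by rw [← Category.assoc, hs, Category.id_comp]

theorem exists_factor [X.IsSeparated] (fX : X ⟶ S) [LocallyOfFiniteType fX] (fT : T ⟶ S) (ν : T' ⟶ T)
    (hν : FlatMor.IsUnivHomeo ν) (g : T' ⟶ X) (hg : g ≫ fX = ν ≫ fT) :
    ∃ (T₁ : Scheme.{u}) (π : T₁ ⟶ T) (_ : IsFinite π) (_ : FlatMor.IsUnivHomeo π) (g₁ : T₁ ⟶ X)
        (h : T' ⟶ T₁), (ResidueFieldsIso ν → ResidueFieldsIso π) ∧ h ≫ π = ν ∧ g₁ ≫ fX = π ≫ fT ∧ h ≫ g₁ = g := by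
  let h := pullback.lift (f := fT) (g := fX) ν g hg.symm
  have hp : h ≫ pullback.fst fT fX = ν := pullback.lift_fst _ _ _
  obtain ⟨hf, hu, hr⟩ := image_props h (pullback.fst fT fX) (hp.symm ▸ hν)
  refine ⟨h.image, h.imageι ≫ pullback.fst fT fX, hf, hu, h.imageι ≫ pullback.snd fT fX, h.toImage,
    fun r => hr (hp.symm ▸ r), ?_, ?_, ?_⟩
  · rw [← Category.assoc, h.toImage_imageι, hp]
  · rw [Category.assoc, Category.assoc, pullback.condition]
  · rw [← Category.assoc, h.toImage_imageι]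
    exact pullback.lift_snd _ _ _

theorem exists_common [X.IsSeparated] (ν : T' ⟶ T) (hν : FlatMor.IsUnivHomeo ν)
    {T₁ T₂ : Scheme.{u}} (π₁ : T₁ ⟶ T) (π₂ : T₂ ⟶ T) [IsFinite π₁] [IsFinite π₂]
    (g₁ : T₁ ⟶ X) (g₂ : T₂ ⟶ X) (h₁ : T' ⟶ T₁) (h₂ : T' ⟶ T₂) (e₁ : h₁ ≫ π₁ = ν) (e₂ : h₂ ≫ π₂ = ν)
    (e : h₁ ≫ g₁ = h₂ ≫ g₂) :
    ∃ (T₃ : Scheme.{u}) (π₃ : T₃ ⟶ T) (_ : IsFinite π₃) (_ : FlatMor.IsUnivHomeo π₃)
      (a₁ : T₃ ⟶ T₁) (a₂ : T₃ ⟶ T₂), (ResidueFieldsIso ν → ResidueFieldsIso π₃) ∧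
        a₁ ≫ π₁ = π₃ ∧ a₂ ≫ π₂ = π₃ ∧ a₁ ≫ g₁ = a₂ ≫ g₂ := by
  let h := pullback.lift (f := π₁) (g := π₂) h₁ h₂ (e₁.trans e₂.symm)
  have hp : h ≫ pullback.fst π₁ π₂ ≫ π₁ = ν := by rw [← Category.assoc, pullback.lift_fst, e₁]
  obtain ⟨hf, hu, hr⟩ := image_props h (pullback.fst π₁ π₂ ≫ π₁) (hp.symm ▸ hν)
  refine ⟨h.image, h.imageι ≫ pullback.fst π₁ π₂ ≫ π₁, hf, hu, h.imageι ≫ pullback.fst π₁ π₂,
    h.imageι ≫ pullback.snd π₁ π₂, fun r => hr (hp.symm ▸ r), Category.assoc _ _ _, ?_, ?_⟩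
  · rw [Category.assoc, pullback.condition]
  · refine image_hom_ext h ?_
    rw [← Category.assoc, ← Category.assoc, ← Category.assoc, ← Category.assoc, h.toImage_imageι,
      pullback.lift_fst, pullback.lift_snd, e]

end Groth.Agent.HTopAwn
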