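import Groth.Agent.HTopAwn.Props

/-!
Functoriality of the absolute weak normalization and compatibility with localization.
-/

universe u

namespace Groth.Agent.HTopAwn

open AlgebraicGeometry CategoryTheory Groth.Agent.MorLib.RUH HTop

variable {A A' A'' : Type u} [CommRing A] [CommRing A'] [CommRing A'']

/-- Maps out of `awn A` into a reduced ring are determined by their restriction to `A`. -/
theorem awn_hom_ext {R : Type u} [CommRing R] [IsReduced R] {f g : awn A →+* R}
    (h : f.comp (algebraMap A (awn A)) = g.comp (algebraMap A (awn A))) : f = g := by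
  refine RingHom.ext fun x => ?_
  rw [← sub_eq_zero]
  refine IsNilpotent.eq_zero (nilpotent_iff_mem_prime.mpr fun J hJ => ?_)
  rw [← Ideal.algebraMap_residueField_eq_zero (I := J), map_sub, sub_eq_zero]
  exact RingHom.congr_fun ((good_awn A).2 J.ResidueField ((algebraMap R _).comp f) ((algebraMap R _).comp g)
    (by rw [RingHom.comp_assoc, RingHom.comp_assoc, h])) x

theorem exists_awnMap (g : A →+* A') :
    ∃ h : awn A →+* awn A', h.comp (algebraMap A (awn A)) = (algebraMap A' (awn A')).comp g := by
  obtain ⟨hi, hr, hs⟩ := (isUnivHomeo_SpecMap_iff _).mp (isUnivHomeo_awn A)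
  choose F hF using fun p : PrimeSpectrum A' => exists_extension (algebraMap A (awn A)) hi
    ((algebraMap A' (AlgebraicClosure p.asIdeal.ResidueField)).comp g) (by
      obtain ⟨q, hq⟩ := hs (PrimeSpectrum.comap g p)
      refine ⟨q, ?_⟩
      rw [← RingHom.comap_ker, ker_algebraMap_pt]
      exact congrArg PrimeSpectrum.asIdeal hq)
  let θ : awn A →+* Pts A' := Pi.ringHom F
  have hθ : ∀ a, θ (algebraMap A (awn A) a) = algebraMap A' (Pts A') (g a) :=
    fun a => funext fun p => RingHom.congr_fun (hF p) a
  let C : Subalgebra A' (Pts A') := Algebra.adjoin A' (Set.range θ)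
  have hC : Good (algebraMap A' C) := by
    refine good_adjoin _ ?_ ?_
    · rintro _ ⟨x, rfl⟩
      obtain ⟨p, hp, hp0⟩ := hi x
      refine ⟨p.map g, hp.map _, ?_⟩
      have := congrArg θ hp0
      rw [Polynomial.hom_eval₂, map_zero] at this
      rw [Polynomial.eval₂_map, show (algebraMap A' (Pts A')).comp g = θ.comp (algebraMap A (awn A)) from
        RingHom.ext fun a => (hθ a).symm]
      exact this
    · rintro K _ f f' h _ ⟨x, rfl⟩
      refine RingHom.congr_fun (hr K (f.comp (θ.codRestrict C fun z => Algebra.subset_adjoin ⟨z, rfl⟩))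
        (f'.comp (θ.codRestrict C fun z => Algebra.subset_adjoin ⟨z, rfl⟩)) (RingHom.ext fun a => ?_)) x
      have e : θ.codRestrict C (fun z => Algebra.subset_adjoin ⟨z, rfl⟩) (algebraMap A (awn A) a) =
          algebraMap A' C (g a) := Subtype.ext (hθ a)
      simp only [RingHom.comp_apply, e]
      exact RingHom.congr_fun h (g a)
  exact ⟨θ.codRestrict (awn A') fun z => le_awn A' hC (Algebra.subset_adjoin ⟨z, rfl⟩),
    RingHom.ext fun a => Subtype.ext (hθ a)⟩

/-- The map on absolute weak normalizations. -/
noncomputable def awnMap (g : A →+* A') : awn A →+* awn A' := (exists_awnMap g).choose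

theorem awnMap_comp_algebraMap (g : A →+* A') :
    (awnMap g).comp (algebraMap A (awn A)) = (algebraMap A' (awn A')).comp g :=
  (exists_awnMap g).choose_spec

theorem awnMap_id : awnMap (RingHom.id A) = RingHom.id (awn A) := by
  haveI := isReduced_awn A
  exact awn_hom_ext (by rw [awnMap_comp_algebraMap]; rfl)

theorem awnMap_comp (g : A →+* A') (g' : A' →+* A'') :
    awnMap (g'.comp g) = (awnMap g').comp (awnMap g) := by
  haveI := isReduced_awn A''
  exact awn_hom_ext (by
    rw [awnMap_comp_algebraMap, RingHom.comp_assoc, awnMap_comp_algebraMap, ← RingHom.comp_assoc,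
      ← RingHom.comp_assoc, awnMap_comp_algebraMap])

theorem exists_isRingAWN_away {W : Type u} [CommRing W] (ι : A →+* W)
    (hW : FlatMor.IsUnivHomeo (Spec.map (CommRingCat.ofHom ι))) (hAWN : IsAWNRing W) [Algebra A A'] (r : A)
    [IsLocalization.Away r A'] :
    ∃ φ : A' →+* Localization.Away (ι r),
      φ.comp (algebraMap A A') = (algebraMap W (Localization.Away (ι r))).comp ι ∧ IsRingAWN φ := by
  let D := Localization.Away (ι r)
  let j : W →+* D := algebraMap W D
  have hu0 : IsUnit ((j.comp ι) r) := IsLocalization.Away.algebraMap_isUnit (ι r)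
  let φ : A' →+* D := IsLocalization.Away.lift (S := A') r hu0
  have hφ : φ.comp (algebraMap A A') = j.comp ι :=
    IsLocalization.Away.lift_comp r hu0
  obtain ⟨hi, hr, hs⟩ := (isUnivHomeo_SpecMap_iff _).mp hW
  have hu : FlatMor.IsUnivHomeo (Spec.map (CommRingCat.ofHom φ)) := by
    refine (isUnivHomeo_SpecMap_iff φ).mpr ⟨fun d => ?_, fun K _ f g h => ?_, fun p => ?_⟩
    · obtain ⟨w, ⟨_, n, rfl⟩, rfl⟩ := IsLocalization.exists_mk'_eq (Submonoid.powers (ι r)) d
      obtain ⟨p, hp, hp0⟩ := hi w
      have h1 : φ.IsIntegralElem (j w) := ⟨p.map (algebraMap A A'), hp.map _, by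
        rw [Polynomial.eval₂_map, hφ, ← Polynomial.hom_eval₂, hp0, map_zero]⟩
      obtain ⟨u, hu⟩ := (IsLocalization.Away.algebraMap_isUnit (S := A') r).pow n
      have e : IsLocalization.mk' D w (⟨_, n, rfl⟩ : Submonoid.powers (ι r)) =
          j w * φ ↑u⁻¹ := by
        rw [IsLocalization.mk'_eq_iff_eq_mul]
        change j w = _ * j (ι r ^ n)
        rw [map_pow, ← RingHom.comp_apply j, ← hφ, RingHom.comp_apply, ← map_pow, ← hu, mul_assoc,
          ← map_mul, Units.inv_mul, map_one, mul_one]
      rw [e]
      exact h1.mul φ (φ.isIntegralElem_map)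
    · refine IsLocalization.ringHom_ext (Submonoid.powers (ι r)) (hr K _ _ ?_)
      rw [RingHom.comp_assoc, RingHom.comp_assoc, ← hφ, ← RingHom.comp_assoc, h, RingHom.comp_assoc]
    · obtain ⟨q, hq⟩ := hs (PrimeSpectrum.comap (algebraMap A A') p)
      have hrq : ι r ∉ q.asIdeal := fun hh => by
        have : r ∈ (PrimeSpectrum.comap (algebraMap A A') p).asIdeal := by rw [← hq]; exact hh
        exact p.2.ne_top (Ideal.eq_top_of_isUnit_mem _ this (IsLocalization.Away.algebraMap_isUnit r))
      have hqr : q ∈ Set.range (PrimeSpectrum.comap j) := by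
        rw [PrimeSpectrum.localization_away_comap_range D (ι r)]
        exact hrq
      obtain ⟨Q, rfl⟩ := hqr
      refine ⟨Q, PrimeSpectrum.localization_comap_injective A' (Submonoid.powers r) ?_⟩
      rw [← hq, ← PrimeSpectrum.comap_comp_apply, ← PrimeSpectrum.comap_comp_apply, hφ]
  exact ⟨φ, hφ, isRingAWN_of_awn φ hu (awn_away _ hAWN)⟩

/-- Compatibility with localization. -/
theorem isLocalization_away_awnMap [Algebra A A'] (r : A) [IsLocalization.Away r A'] :
    letI := (awnMap (algebraMap A A')).toAlgebra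
    IsLocalization.Away (algebraMap A (awn A) r) (awn A') := by
  obtain ⟨φ, hφ, hφ'⟩ := exists_isRingAWN_away (A' := A') (algebraMap A (awn A)) (isUnivHomeo_awn A)
    (isAWNRing_awn A) r
  obtain ⟨e, he⟩ := exists_equiv_awn hφ'
  have hej : e.toRingHom.comp (algebraMap (awn A) (Localization.Away (algebraMap A (awn A) r))) =
      awnMap (algebraMap A A') := by
    haveI := isReduced_awn A'
    exact awn_hom_ext (by rw [awnMap_comp_algebraMap, RingHom.comp_assoc, ← hφ, ← RingHom.comp_assoc, he])
  letI := (awnMap (algebraMap A A')).toAlgebra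
  exact IsLocalization.isLocalization_of_algEquiv (Submonoid.powers (algebraMap A (awn A) r))
    (AlgEquiv.ofRingEquiv (f := e) fun w => RingHom.congr_fun hej w)

end Groth.Agent.HTopAwn
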