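import Groth.Agent.HTopAwn.Restrict

/-!
Lifting morphisms out of seminormal schemes through proper universally injective morphisms, point by point.
-/

set_option backward.isDefEq.respectTransparency false
set_option backward.isDefEq.respectTransparency.types false

universe u

namespace Groth.Agent.HTopAwn

open AlgebraicGeometry CategoryTheory Limits Scheme Groth.Agent.MorLib Groth.Agent.MorLib.RUH HTop

theorem exists_lift_of_pointwise {T X Y : Scheme.{u}} (hT : IsSeminormal T) (f : X ⟶ Y) [IsProper f]
    [UniversallyInjective f] (g : T ⟶ Y)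
    (hlift : ∀ t : T, ∃ l : Spec (T.residueField t) ⟶ X, l ≫ f = T.fromSpecResidueField t ≫ g) :
    ∃ h : T ⟶ X, h ≫ f = g := by
  let P := pullback f g
  let i := P.nilradical.subschemeι
  haveI := Groth.Agent.H23.RedSub.isReduced_nilradical P
  haveI : Surjective i := ⟨by
    rw [← Set.range_eq_univ, Scheme.IdealSheafData.range_subschemeι, Scheme.support_nilradical]; rfl⟩
  haveI : UniversallyInjective (pullback.snd f g) :=
    MorphismProperty.pullback_snd (P := @UniversallyInjective) _ _ inferInstance
  have hsec : ∀ t : T, ∃ b : Spec (T.residueField t) ⟶ P, b ≫ pullback.snd f g = T.fromSpecResidueField t := fun t => by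
    obtain ⟨l, hl⟩ := hlift t
    exact ⟨pullback.lift l (T.fromSpecResidueField t) hl, pullback.lift_snd _ _ _⟩
  haveI : Surjective (pullback.snd f g) := ⟨fun t => by
    obtain ⟨b, hb⟩ := hsec t
    let pt : Spec (T.residueField t) := IsLocalRing.closedPoint (T.residueField t)
    refine ⟨b pt, ?_⟩
    rw [← Scheme.Hom.comp_apply, hb, Scheme.fromSpecResidueField_apply]⟩
  have hs : ResidueFieldsIso (pullback.snd f g) := fun z => by
    obtain ⟨b, hb⟩ := hsec (pullback.snd f g z)
    let pt : Spec (T.residueField (pullback.snd f g z)) := IsLocalRing.closedPoint (T.residueField (pullback.snd f g z))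
    have hz : b pt = z := by
      apply (pullback.snd f g).injective
      rw [← Scheme.Hom.comp_apply, hb, Scheme.fromSpecResidueField_apply]
    refine (ConcreteCategory.isIso_iff_bijective _).mpr ⟨RingHom.injective _, ?_⟩
    rw [← hz]
    exact surjective_residueFieldMap_of_lift _ _ b hb pt
  have hq : FlatMor.IsUnivHomeo (i ≫ pullback.snd f g) :=
    isUnivHomeo_iff.mpr ⟨inferInstance, MorphismProperty.comp_mem @UniversallyInjective i _ inferInstance inferInstance, inferInstance⟩
  have hqr : ResidueFieldsIso (i ≫ pullback.snd f g) := fun z => by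
    haveI : IsIso (i.residueFieldMap z) := (ConcreteCategory.isIso_iff_bijective _).mpr
      ⟨RingHom.injective _, surjective_residueFieldMap_of_isClosedImmersion i z⟩
    haveI := hs (i z)
    rw [Scheme.residueFieldMap_comp]
    infer_instance
  haveI := isIso_of_isSeminormal hT hq hqr
  refine ⟨inv (i ≫ pullback.snd f g) ≫ i ≫ pullback.fst f g, ?_⟩
  rw [Category.assoc, Category.assoc, pullback.condition, ← Category.assoc i, IsIso.inv_hom_id_assoc]

end Groth.Agent.HTopAwn
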