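import Groth.Agent.HTopAwn.Lift
import Mathlib.AlgebraicGeometry.AffineSpace
import Mathlib.AlgebraicGeometry.Morphisms.UniversallyInjective
import Mathlib.LinearAlgebra.Basis.VectorSpace

/-!
Functions descend along proper surjective morphisms to seminormal schemes.
-/

set_option backward.isDefEq.respectTransparency false
set_option backward.isDefEq.respectTransparency.types false
set_option linter.style.haveILetI false

universe u

namespace Groth.Agent.HTopAwn

open AlgebraicGeometry CategoryTheory Limits IsLocalRing HTop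
open scoped TensorProduct

theorem mem_range_of_tmul_one_eq {k B : Type u} [Field k] [CommRing B] [Algebra k B] [Nontrivial B] (b : B)
    (h : b ⊗ₜ[k] (1 : B) = 1 ⊗ₜ[k] b) : ∃ c : k, algebraMap k B c = b := by
  obtain ⟨φ, hφ⟩ := (Algebra.linearMap k B).exists_leftInverse_of_injective
    (LinearMap.ker_eq_bot.2 (algebraMap k B).injective)
  have h1 : φ 1 = 1 := by
    have := LinearMap.congr_fun hφ 1
    simpa using this
  refine ⟨φ b, ?_⟩
  have := congrArg (fun t => TensorProduct.lid k B (LinearMap.rTensor B φ t)) h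
  simp only [LinearMap.rTensor_tmul, TensorProduct.lid_tmul, h1, one_smul] at this
  rwa [Algebra.smul_def, mul_one] at this

variable {X Y : Scheme.{u}} (π : Y ⟶ X) (s : Γ(Y, ⊤))

theorem appTop_eq_of_eqlz (hs : (pullback.fst π π).appTop s = (pullback.snd π π).appTop s) {W : Scheme.{u}}
    (a b : W ⟶ Y) (h : a ≫ π = b ≫ π) : a.appTop s = b.appTop s := by
  have ha : a.appTop s = (pullback.lift a b h).appTop ((pullback.fst π π).appTop s) := by
    rw [← ConcreteCategory.comp_apply, ← Scheme.Hom.comp_appTop, pullback.lift_fst]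
  rw [ha, hs, ← ConcreteCategory.comp_apply, ← Scheme.Hom.comp_appTop, pullback.lift_snd]

/-- The value at a point of a function equalised by the two projections. -/
theorem exists_value [Surjective π] (hs : (pullback.fst π π).appTop s = (pullback.snd π π).appTop s) (x : X) :
    ∃ c : Γ(Spec (X.residueField x), ⊤), ∀ (K : Type u) [Field K] (u : Spec (CommRingCat.of K) ⟶ Y)
      (a : Spec (CommRingCat.of K) ⟶ Spec (X.residueField x)),
      u ≫ π = a ≫ X.fromSpecResidueField x → u.appTop s = a.appTop c := by
  let k := X.residueField x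
  obtain ⟨y, hy⟩ := π.surjective x
  obtain ⟨p, -, -⟩ := Scheme.Pullback.exists_preimage_pullback (f := π) (g := X.fromSpecResidueField x) y
    (closedPoint k) (hy.trans (Scheme.fromSpecResidueField_apply _ _).symm)
  let P := pullback π (X.fromSpecResidueField x)
  obtain ⟨j, z, -⟩ := P.affineCover.exists_eq p
  obtain ⟨B, ⟨e⟩⟩ : ∃ B : CommRingCat.{u}, Nonempty (Spec B ≅ P.affineCover.X j) :=
    ⟨_, ⟨(P.affineCover.X j).isoSpec.symm⟩⟩
  let v : Spec B ⟶ P := e.hom ≫ P.affineCover.f j
  let r : k ⟶ B := Spec.preimage (v ≫ pullback.snd _ _)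
  have hr : Spec.map r = v ≫ pullback.snd _ _ := Spec.map_preimage _
  have hv : (v ≫ pullback.fst _ _) ≫ π = Spec.map r ≫ X.fromSpecResidueField x := by
    rw [hr]
    simp only [v, Category.assoc, pullback.condition]
  haveI : Nontrivial B := by
    let z' : PrimeSpectrum B := e.inv z
    exact PrimeSpectrum.nonempty_iff_nontrivial.1 ⟨z'⟩
  letI := r.hom.toAlgebra
  let b : B := (Scheme.ΓSpecIso B).hom ((v ≫ pullback.fst _ _).appTop s)
  have hb : b ⊗ₜ[k] (1 : B) = 1 ⊗ₜ[k] b := by
    let BB := CommRingCat.of (B ⊗[k] B)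
    let i₁ : B ⟶ BB := CommRingCat.ofHom Algebra.TensorProduct.includeLeftRingHom
    let i₂ : B ⟶ BB := CommRingCat.ofHom (Algebra.TensorProduct.includeRight (R := k) (A := B) (B := B)).toRingHom
    have h12 : r ≫ i₁ = r ≫ i₂ := CommRingCat.hom_ext (RingHom.ext fun c => by
      show algebraMap k B c ⊗ₜ[k] (1 : B) = (1 : B) ⊗ₜ[k] algebraMap k B c
      rw [Algebra.algebraMap_eq_smul_one, TensorProduct.smul_tmul])
    have := appTop_eq_of_eqlz π s hs (Spec.map i₁ ≫ v ≫ pullback.fst _ _) (Spec.map i₂ ≫ v ≫ pullback.fst _ _) (by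
      rw [Category.assoc, hv, Category.assoc, hv, ← Spec.map_comp_assoc, h12, Spec.map_comp_assoc])
    have e1 := fun (i : B ⟶ BB) => congrArg (fun φ => φ ((v ≫ pullback.fst _ _).appTop s)) (Scheme.ΓSpecIso_naturality i)
    simp only [ConcreteCategory.comp_apply] at e1
    rw [Scheme.Hom.comp_appTop (Spec.map i₁), Scheme.Hom.comp_appTop (Spec.map i₂), ConcreteCategory.comp_apply, ConcreteCategory.comp_apply] at this
    have e2 := congrArg (Scheme.ΓSpecIso BB).hom this
    rw [e1, e1] at e2
    exact e2
  obtain ⟨c, hc⟩ := mem_range_of_tmul_one_eq b hb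
  refine ⟨(Scheme.ΓSpecIso k).inv c, fun K _ u a hua => ?_⟩
  have hvs : (v ≫ pullback.fst _ _).appTop s = (Spec.map r).appTop ((Scheme.ΓSpecIso k).inv c) := by
    refine ((ConcreteCategory.bijective_of_isIso (Scheme.ΓSpecIso B).hom).1 ?_)
    rw [← ConcreteCategory.comp_apply (Spec.map r).appTop, Scheme.ΓSpecIso_naturality, ConcreteCategory.comp_apply,
      Iso.inv_hom_id_apply]
    exact hc.symm
  obtain ⟨q, -, -⟩ := Scheme.Pullback.exists_preimage_pullback (f := Spec.map r) (g := a) (e.inv z)
    (closedPoint K) (Subsingleton.elim (α := PrimeSpectrum k) _ _)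
  let Q := pullback (Spec.map r) a
  let w : Spec (Q.residueField q) ⟶ Q := Q.fromSpecResidueField q
  have key := appTop_eq_of_eqlz π s hs ((w ≫ pullback.fst _ _) ≫ v ≫ pullback.fst _ _) ((w ≫ pullback.snd _ _) ≫ u) (by
    rw [Category.assoc _ u, hua, Category.assoc _ (v ≫ pullback.fst _ _), hv, Category.assoc, Category.assoc,
      reassoc_of% (pullback.condition (f := Spec.map r) (g := a))])
  have hinj : Function.Injective (w ≫ pullback.snd (Spec.map r) a).appTop := by
    obtain ⟨ψ, hψ⟩ : ∃ ψ : CommRingCat.of K ⟶ Q.residueField q, Spec.map ψ = w ≫ pullback.snd _ _ :=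
      ⟨Spec.preimage _, Spec.map_preimage _⟩
    rw [← hψ]
    intro a₁ a₂ h
    refine (ConcreteCategory.bijective_of_isIso (Scheme.ΓSpecIso (CommRingCat.of K)).hom).1 (ψ.hom.injective ?_)
    rw [← ConcreteCategory.comp_apply, ← ConcreteCategory.comp_apply, ← Scheme.ΓSpecIso_naturality,
      ConcreteCategory.comp_apply, ConcreteCategory.comp_apply, h]
  refine hinj ?_
  have hl : ∀ {W W' : Scheme.{u}} (g : W ⟶ W') (g' : W' ⟶ Spec k) (t : Γ(Spec k, ⊤)),
      g.appTop (g'.appTop t) = (g ≫ g').appTop t := fun g g' t => by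
    rw [Scheme.Hom.comp_appTop, ConcreteCategory.comp_apply]
  rw [← ConcreteCategory.comp_apply u.appTop, ← Scheme.Hom.comp_appTop, ← key, Scheme.Hom.comp_appTop,
    ConcreteCategory.comp_apply, hvs, hl, hl, Category.assoc, Category.assoc, pullback.condition]

theorem existsUnique_descend [IsReduced Y] [IsProper π] [Surjective π] (hX : IsSeminormal X)
    (hs : (pullback.fst π π).appTop s = (pullback.snd π π).appTop s) :
    ∃! t : Γ(X, ⊤), π.appTop t = s := by
  let n : Type u := PUnit
  let q := AlgebraicGeometry.AffineSpace.homOfVector (n := n) π (fun _ => s)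
  let Z := q.image
  let zι : Z ⟶ 𝔸(n; X) := q.imageι
  let f : Z ⟶ X := zι ≫ 𝔸(n; X) ↘ X
  have hqf : q.toImage ≫ f = π := by
    show q.toImage ≫ q.imageι ≫ _ = _
    rw [Scheme.Hom.toImage_imageι_assoc, AffineSpace.homOfVector_over]
  haveI : IsClosedImmersion zι := inferInstanceAs (IsClosedImmersion q.imageι)
  haveI : IsSeparated f := inferInstanceAs (IsSeparated (zι ≫ _))
  haveI : LocallyOfFiniteType f := inferInstanceAs (LocallyOfFiniteType (zι ≫ _))
  haveI : QuasiCompact f := inferInstanceAs (QuasiCompact (zι ≫ _))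
  haveI : IsProper q.toImage := by
    haveI : IsProper (q.toImage ≫ f) := hqf ▸ ‹IsProper π›
    exact IsProper.of_comp q.toImage f
  haveI : QuasiCompact q := by
    haveI : QuasiCompact (q ≫ 𝔸(n; X) ↘ X) := (AffineSpace.homOfVector_over _ _).symm ▸ inferInstance
    exact QuasiCompact.of_comp q (𝔸(n; X) ↘ X)
  haveI : Surjective q.toImage := by
    haveI : IsDominant q.toImage := inferInstance
    refine ⟨Set.range_eq_univ.1 ?_⟩
    rw [← q.toImage.isClosedMap.isClosed_range.closure_eq]
    exact q.toImage.denseRange.closure_eq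
  haveI : IsProper f := by
    haveI : UniversallyClosed (q.toImage ≫ f) := hqf ▸ inferInstance
    haveI := UniversallyClosed.of_comp_surjective q.toImage f
    exact ⟨⟩
  choose c hc using exists_value π s hs
  have hval : ∀ (K : Type u) [Field K] (l : Spec (CommRingCat.of K) ⟶ Z) (x : X)
      (a : Spec (CommRingCat.of K) ⟶ Spec (X.residueField x)),
      l ≫ f = a ≫ X.fromSpecResidueField x → (l ≫ zι).appTop (AffineSpace.coord X PUnit.unit) = a.appTop (c x) := by
    intro K _ l x a ha
    obtain ⟨y, hy⟩ := q.toImage.surjective (l (closedPoint K))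
    obtain ⟨p, -, -⟩ := Scheme.Pullback.exists_preimage_pullback (f := l) (g := q.toImage) (closedPoint K) y hy.symm
    let w := (pullback l q.toImage).fromSpecResidueField p
    let u := w ≫ pullback.snd l q.toImage
    let a' := w ≫ pullback.fst l q.toImage
    have e := hc x ((pullback l q.toImage).residueField p) u (a' ≫ a) (by
      rw [Category.assoc a', ← ha, ← hqf]
      simp only [u, a', Category.assoc]
      rw [← reassoc_of% (pullback.condition (f := l) (g := q.toImage))])
    have hinj : Function.Injective a'.appTop := by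
      obtain ⟨ψ, hψ⟩ : ∃ ψ : CommRingCat.of K ⟶ (pullback l q.toImage).residueField p, Spec.map ψ = a' :=
        ⟨Spec.preimage _, Spec.map_preimage _⟩
      rw [← hψ]
      intro a₁ a₂ h
      refine (ConcreteCategory.bijective_of_isIso (Scheme.ΓSpecIso (CommRingCat.of K)).hom).1 (ψ.hom.injective ?_)
      rw [← ConcreteCategory.comp_apply, ← ConcreteCategory.comp_apply, ← Scheme.ΓSpecIso_naturality,
        ConcreteCategory.comp_apply, ConcreteCategory.comp_apply, h]
    refine hinj ?_
    rw [← ConcreteCategory.comp_apply a.appTop, ← Scheme.Hom.comp_appTop]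
    refine Eq.trans ?_ e
    rw [← ConcreteCategory.comp_apply,
      ← Scheme.Hom.comp_appTop]
    rw [show a' ≫ l ≫ zι = u ≫ q by
      simp only [u, a', Category.assoc]
      rw [reassoc_of% (pullback.condition (f := l) (g := q.toImage))]
      exact congrArg (fun g => w ≫ pullback.snd l q.toImage ≫ g) q.toImage_imageι,
      Scheme.Hom.comp_appTop, ConcreteCategory.comp_apply, AffineSpace.homOfVector_appTop_coord]
    rfl
  haveI : UniversallyInjective f := by
    refine ((tfae_universallyInjective f).out 0 1).2 ?_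
    intro K hK
    intro l₁ l₂ hl
    replace hl : l₁ ≫ f = l₂ ≫ f := hl
    let x := (l₁ ≫ f) (closedPoint K)
    obtain ⟨a, ha⟩ : ∃ a, a ≫ X.fromSpecResidueField x = l₁ ≫ f :=
      ⟨_, Scheme.descResidueField_stalkClosedPointTo_fromSpecResidueField K X (l₁ ≫ f)⟩
    rw [← cancel_mono zι]
    refine AffineSpace.hom_ext (by rw [Category.assoc, Category.assoc]; exact hl) fun i => ?_
    rw [hval K l₁ x a ha.symm, hval K l₂ x a (hl.symm.trans ha.symm)]
  obtain ⟨h, hh⟩ := exists_lift_of_pointwise hX f (𝟙 X) fun x => by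
    let A := AffineSpace.homOfVector (n := n) (X.fromSpecResidueField x) (fun _ => c x)
    obtain ⟨y, hy⟩ := π.surjective x
    have hf : f (q.toImage y) = x := by
      rw [← Scheme.Hom.comp_apply, hqf, hy]
    let z := q.toImage y
    let lz : Spec (Z.residueField z) ⟶ Z := Z.fromSpecResidueField z
    have key : ∀ (x' : X) (e : f z = x'), Spec.map (X.residueFieldCongr e).inv ≫ X.fromSpecResidueField x' =
        X.fromSpecResidueField (f z) := by
      rintro _ rfl
      simp
    let az : Spec (Z.residueField z) ⟶ Spec (X.residueField x) :=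
      Spec.map (f.residueFieldMap z) ≫ Spec.map (X.residueFieldCongr hf).inv
    have haz : lz ≫ f = az ≫ X.fromSpecResidueField x := by
      rw [Category.assoc, key x hf]
      exact (Scheme.Hom.SpecMap_residueFieldMap_fromSpecResidueField f z).symm
    have hfac : lz ≫ zι = az ≫ A := by
      refine AffineSpace.hom_ext ?_ fun i => ?_
      · rw [Category.assoc az, AffineSpace.homOfVector_over, ← haz, Category.assoc]
      · obtain rfl : i = PUnit.unit := rfl
        refine (hval (Z.residueField z) lz x az haz).trans ?_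
        rw [Scheme.Hom.comp_appTop az A, ConcreteCategory.comp_apply, AffineSpace.homOfVector_appTop_coord]
        rfl
    have hr : Set.range A ⊆ Set.range zι := by
      rintro _ ⟨o, rfl⟩
      let pz : Spec (Z.residueField z) := closedPoint (Z.residueField z)
      refine ⟨lz pz, ?_⟩
      rw [← Scheme.Hom.comp_apply, hfac, Scheme.Hom.comp_apply]
      exact congrArg A (@Subsingleton.elim _ (inferInstanceAs (Subsingleton (PrimeSpectrum (X.residueField x)))) _ _)
    haveI : IsReduced (Spec (X.residueField x)) := inferInstance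
    obtain ⟨l, hl⟩ := Groth.Agent.H23.RedSub.exists_lift_closed A zι hr
    exact ⟨l, by rw [Category.comp_id, ← Category.assoc l, hl, AffineSpace.homOfVector_over]⟩
  have hred : IsReduced X := isReduced_of_isSeminormal hX
  let t := (h ≫ zι).appTop (AffineSpace.coord X PUnit.unit)
  have htop : π ≫ h ≫ zι = q := by
    have : π ≫ h = q.toImage := by
      refine ext_of_fromSpecResidueField_eq _ _ f Set.univ dense_univ (fun y _ => ?_) (by rw [Category.assoc, hh, Category.comp_id, hqf])
      have hinj := (((tfae_universallyInjective f).out 0 1 rfl rfl).1 inferInstance) (Y.residueField y)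
      refine hinj ?_
      show (Y.fromSpecResidueField y ≫ π ≫ h) ≫ f = (Y.fromSpecResidueField y ≫ q.toImage) ≫ f
      simp only [Category.assoc, hh, Category.comp_id, hqf]
    rw [reassoc_of% this]
    exact q.toImage_imageι
  refine ⟨t, ?_, fun t' ht' => ?_⟩
  · show π.appTop ((h ≫ zι).appTop _) = s
    rw [← ConcreteCategory.comp_apply, ← Scheme.Hom.comp_appTop, htop, AffineSpace.homOfVector_appTop_coord]
  · have ht : π.appTop t = s := by
      show π.appTop ((h ≫ zι).appTop _) = s
      rw [← ConcreteCategory.comp_apply, ← Scheme.Hom.comp_appTop, htop, AffineSpace.homOfVector_appTop_coord]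
    rw [← sub_eq_zero]
    refine eq_zero_of_basicOpen_eq_bot _ (eq_bot_iff.2 fun x hx => ?_)
    obtain ⟨y, rfl⟩ := π.surjective x
    have h0 : π.appTop (t' - t) = 0 := by rw [map_sub, ht, ht', sub_self]
    have : y ∈ π ⁻¹ᵁ X.basicOpen (t' - t) := hx
    rw [Scheme.preimage_basicOpen_top, h0, Scheme.basicOpen_zero] at this
    exact this.elim

end Groth.Agent.HTopAwn
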