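import Groth.Agent.HTopAwn.Restrict
import Groth.Agent.RedNorm.Basic
import Groth.Agent.Rat20Lib.DVRDom
import Groth.Agent.LocalCrit.Completion
import Groth.Prelude.Def_W4c1hilbchowincPtFun
import Mathlib.RingTheory.Spectrum.Maximal.Localization

/-!
Pointwise functions varying along discrete valuation rings are integral elements.
-/

set_option backward.isDefEq.respectTransparency false
set_option backward.isDefEq.respectTransparency.types false

universe u

namespace Groth.Agent.HTopAwn

open AlgebraicGeometry CategoryTheory HTop W4c1hilbchowinc Groth.Agent.RedNorm Groth.Agent.MorLib.RUH IsLocalRing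

section values

variable {A : Type u} [CommRing A]

theorem bijective_Γevaluation (L : Type u) [Field L] (x : Spec (CommRingCat.of L)) :
    Function.Bijective ((Spec (CommRingCat.of L)).Γevaluation x) := by
  let e := (Scheme.Spec.residueFieldIso (CommRingCat.of L) x).inv
  have he : Function.Bijective e.hom := (ConcreteCategory.isIso_iff_bijective e).mp inferInstance
  have hx : x.asIdeal = ⊥ := (Ideal.eq_bot_or_top x.asIdeal).resolve_right x.isPrime.ne_top
  haveI : x.asIdeal.IsMaximal := hx ▸ Ideal.bot_isMaximal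
  have ha : Function.Bijective (algebraMap L x.asIdeal.ResidueField) := by
    refine ⟨RingHom.injective _, ?_⟩
    intro y
    obtain ⟨z, rfl⟩ := x.asIdeal.bijective_algebraMap_quotient_residueField.2 y
    obtain ⟨l, rfl⟩ := Ideal.Quotient.mk_surjective z
    exact ⟨l, IsScalarTower.algebraMap_apply L (L ⧸ x.asIdeal) _ l⟩
  have key : ∀ l : L, (Spec (CommRingCat.of L)).Γevaluation x ((Scheme.ΓSpecIso (CommRingCat.of L)).inv l) =
      e (algebraMap L x.asIdeal.ResidueField l) := fun l =>
    (congr($(Scheme.Spec.algebraMap_residueFieldIso_inv (CommRingCat.of L) x) l)).symm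
  have hbij := (ConcreteCategory.isIso_iff_bijective (Scheme.ΓSpecIso (CommRingCat.of L)).inv).mp inferInstance
  refine ⟨fun a b hab => ?_, fun y => ?_⟩
  · obtain ⟨a, rfl⟩ := hbij.2 a
    obtain ⟨b, rfl⟩ := hbij.2 b
    exact congrArg _ (RingHom.injective (RingHom.comp ((Spec (CommRingCat.of L)).Γevaluation x).hom
      (Scheme.ΓSpecIso (CommRingCat.of L)).inv.hom) hab)
  · obtain ⟨z, rfl⟩ := he.2 y
    obtain ⟨l, rfl⟩ := ha.2 z
    exact ⟨_, key l⟩

variable (f : PtFun (Spec (CommRingCat.of A))) {L : Type u} [Field L]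

theorem existsUnique_value (χ : A →+* L) : ∃! a : L,
    PtFun.ofSection (Spec (CommRingCat.of L)) ((Scheme.ΓSpecIso (CommRingCat.of L)).inv a) =
      PtFun.pullback (Spec.map (CommRingCat.ofHom χ)) f := by
  let pt : Spec (CommRingCat.of L) := closedPoint L
  have hbij := (ConcreteCategory.isIso_iff_bijective (Scheme.ΓSpecIso (CommRingCat.of L)).inv).mp inferInstance
  obtain ⟨s, hs⟩ := (bijective_Γevaluation L pt).2 (PtFun.pullback (Spec.map (CommRingCat.ofHom χ)) f pt)
  obtain ⟨a, rfl⟩ := hbij.2 s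
  refine ⟨a, funext fun y => ?_, fun b hb => hbij.1 ((bijective_Γevaluation L pt).1 ((congrFun hb pt).trans hs.symm))⟩
  obtain rfl : y = pt := @Subsingleton.elim _ (inferInstanceAs (Subsingleton (PrimeSpectrum L))) _ _
  exact hs

/-- The value of a pointwise function at a field valued point. -/
noncomputable def valAt (χ : A →+* L) : L := (existsUnique_value f χ).choose

theorem valAt_spec (χ : A →+* L) :
    PtFun.ofSection (Spec (CommRingCat.of L)) ((Scheme.ΓSpecIso (CommRingCat.of L)).inv (valAt f χ)) =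
      PtFun.pullback (Spec.map (CommRingCat.ofHom χ)) f :=
  (existsUnique_value f χ).choose_spec.1

theorem valAt_eq (χ : A →+* L) {a : L}
    (h : PtFun.ofSection (Spec (CommRingCat.of L)) ((Scheme.ΓSpecIso (CommRingCat.of L)).inv a) =
      PtFun.pullback (Spec.map (CommRingCat.ofHom χ)) f) : valAt f χ = a :=
  (existsUnique_value f χ).unique (valAt_spec f χ) h

theorem pullback_pullback {X Y Z : Scheme.{u}} (g : Z ⟶ Y) (g' : Y ⟶ X) (F : PtFun X) :
    PtFun.pullback (g ≫ g') F = PtFun.pullback g (PtFun.pullback g' F) :=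
  funext fun z => by simp only [PtFun.pullback, Scheme.residueFieldMap_comp]; rfl

theorem pullback_section {R S : Type u} [CommRing R] [CommRing S] (ψ : R →+* S) (r : R) :
    PtFun.pullback (Spec.map (CommRingCat.ofHom ψ))
        (PtFun.ofSection (Spec (CommRingCat.of R)) ((Scheme.ΓSpecIso (CommRingCat.of R)).inv r)) =
      PtFun.ofSection (Spec (CommRingCat.of S)) ((Scheme.ΓSpecIso (CommRingCat.of S)).inv (ψ r)) :=
  funext fun y => (Scheme.Γevaluation_naturality_apply (Spec.map (CommRingCat.ofHom ψ)) y _).trans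
    (congrArg _ congr($(Scheme.ΓSpecIso_inv_naturality (CommRingCat.ofHom ψ)) r).symm)

theorem valAt_comp {L' : Type u} [Field L'] (χ : A →+* L) (j : L →+* L') : valAt f (j.comp χ) = j (valAt f χ) := by
  refine valAt_eq f _ ?_
  rw [← pullback_section, valAt_spec, ← pullback_pullback, ← Spec.map_comp]
  rfl

theorem valAt_varies {R : Type u} [CommRing R] [IsDomain R] (φ : A →+* R)
    (hf : (f.pullback (Spec.map (CommRingCat.ofHom φ))).IsAlgebraic) :
    ∃ r : R, ∀ (L : Type u) [Field L] (ψ : R →+* L), valAt f (ψ.comp φ) = ψ r := by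
  obtain ⟨s, hs⟩ := hf
  refine ⟨(Scheme.ΓSpecIso (CommRingCat.of R)).hom s, fun L _ ψ => valAt_eq f _ ?_⟩
  have h1 : (Scheme.ΓSpecIso (CommRingCat.of R)).inv ((Scheme.ΓSpecIso (CommRingCat.of R)).hom s) = s := by
    rw [← ConcreteCategory.comp_apply, Iso.hom_inv_id]
    rfl
  rw [← pullback_section, h1, hs, ← pullback_pullback, ← Spec.map_comp]
  rfl

theorem ofSection_eq (a : Γ(Spec (CommRingCat.of A), ⊤))
    (h : ∀ (L : Type u) [Field L] (χ : A →+* L), valAt f χ = χ ((Scheme.ΓSpecIso (CommRingCat.of A)).hom a)) :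
    PtFun.ofSection (Spec (CommRingCat.of A)) a = f := by
  funext x
  let X := Spec (CommRingCat.of A)
  let χ : A →+* X.residueField x := (Spec.preimage (X.fromSpecResidueField x)).hom
  have hχ : Spec.map (CommRingCat.ofHom χ) = X.fromSpecResidueField x := Spec.map_preimage _
  have h1 : (Scheme.ΓSpecIso (CommRingCat.of A)).inv ((Scheme.ΓSpecIso (CommRingCat.of A)).hom a) = a := by
    rw [← ConcreteCategory.comp_apply, Iso.hom_inv_id]
    rfl
  have h2 := valAt_spec f χ
  rw [h _ χ, ← pullback_section, h1] at h2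
  let pt : Spec (CommRingCat.of (X.residueField x)) := closedPoint (X.residueField x)
  have hpt : (Spec.map (CommRingCat.ofHom χ)) pt = x := by
    rw [hχ]
    exact Scheme.fromSpecResidueField_apply x pt
  have h3 := RingHom.injective _ (congrFun h2 pt)
  exact hpt ▸ h3

theorem valAt_ofSection (a : Γ(Spec (CommRingCat.of A), ⊤)) (χ : A →+* L) :
    valAt (PtFun.ofSection (Spec (CommRingCat.of A)) a) χ = χ ((Scheme.ΓSpecIso (CommRingCat.of A)).hom a) := by
  refine valAt_eq _ _ ?_
  rw [← pullback_section]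
  congr 2
  rw [← ConcreteCategory.comp_apply, Iso.hom_inv_id]
  rfl

end values

section completion

variable {V : Type u} [CommRing V] [IsDomain V] [IsDiscreteValuationRing V]

theorem isDVR_completion :
    ∃ (_ : IsDomain (AdicCompletion (maximalIdeal V) V)),
      IsDiscreteValuationRing (AdicCompletion (maximalIdeal V) V) ∧
        Function.Injective (algebraMap V (AdicCompletion (maximalIdeal V) V)) := by
  let B := AdicCompletion (maximalIdeal V) V
  haveI : IsNoetherianRing B := Groth.Agent.LocalCrit.isNoetherianRing_completion (A := V) (C := V)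
    (by rw [Algebra.algebraMap_self, Ideal.map_id])
  have hinj : Function.Injective (algebraMap V B) := AdicCompletion.of_injective (maximalIdeal V) V
  obtain ⟨ϖ, hϖ⟩ := IsDiscreteValuationRing.exists_irreducible V
  let t := algebraMap V B ϖ
  have hm : maximalIdeal B = Ideal.span {t} := by
    rw [AdicCompletion.maximalIdeal_eq_map]
    exact (congrArg (Ideal.map (algebraMap V B)) hϖ.maximalIdeal_eq).trans
      (by rw [Ideal.map_span, Set.image_singleton])
  have ht : ∀ n : ℕ, t ^ n ≠ 0 := fun n h => by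
    rw [← map_pow, ← map_zero (algebraMap V B)] at h
    exact pow_ne_zero n hϖ.ne_zero (hinj h)
  have hfac : ∀ x : B, x ≠ 0 → ∃ (n : ℕ) (c : B), IsUnit c ∧ x = c * t ^ n := by
    intro x hx
    have : ∃ n, x ∉ maximalIdeal B ^ n := by
      by_contra hcon
      simp only [not_exists, not_not] at hcon
      refine hx ((Submodule.mem_bot B).mp ?_)
      rw [← Ideal.iInf_pow_eq_bot_of_isLocalRing (maximalIdeal B) (maximalIdeal.isMaximal B).ne_top]
      exact (Submodule.mem_iInf _).mpr hcon
    classical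
    obtain ⟨n, hn⟩ : ∃ n, Nat.find this = n + 1 :=
      ⟨Nat.find this - 1, (Nat.succ_pred_eq_of_pos (Nat.pos_of_ne_zero fun h => Nat.find_spec this (by rw [h, pow_zero, Ideal.one_eq_top]; trivial))).symm⟩
    have h1 : x ∈ maximalIdeal B ^ n := by_contra (Nat.find_min this (by omega))
    have h2 : x ∉ maximalIdeal B ^ (n + 1) := hn ▸ Nat.find_spec this
    rw [hm, Ideal.span_singleton_pow, Ideal.mem_span_singleton'] at h1
    obtain ⟨c, hc⟩ := h1
    refine ⟨n, c, ?_, hc.symm⟩
    by_contra hcu
    refine h2 ?_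
    rw [pow_succ', ← hc]
    exact Ideal.mul_mem_mul ((mem_maximalIdeal c).mpr hcu)
      (Ideal.pow_mem_pow (hm ▸ Ideal.mem_span_singleton_self t) n)
  haveI : NoZeroDivisors B := ⟨fun {a b} hab => by
    by_contra hcon
    simp only [not_or] at hcon
    obtain ⟨n, c, hc, rfl⟩ := hfac a hcon.1
    obtain ⟨m, d, hd, rfl⟩ := hfac b hcon.2
    rw [mul_mul_mul_comm, ← pow_add] at hab
    exact ht (n + m) ((hc.mul hd).mul_right_eq_zero.mp hab)⟩
  haveI hdom : IsDomain B := NoZeroDivisors.to_isDomain B
  have hnf : ¬ IsField B := fun hF => by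
    have := isField_iff_maximalIdeal_eq.mp hF
    rw [hm, Ideal.span_singleton_eq_bot] at this
    exact ht 1 (by rw [pow_one]; exact this)
  exact ⟨hdom, ((IsDiscreteValuationRing.TFAE B hnf).out 0 4).mpr (⟨⟨t, hm⟩⟩ : (maximalIdeal B).IsPrincipal), hinj⟩

end completion

section algebra

variable {A : Type u} [CommRing A]

/-- The condition on field valued values tested on discrete valuation subrings. -/
def ValVaries (f : PtFun (Spec (CommRingCat.of A))) : Prop :=
  ∀ (K : Type u) [Field K] (V : ValuationSubring K), IsDiscreteValuationRing V → ∀ φ : A →+* V,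
    ∃ r : V, valAt f (V.subtype.comp φ) = (r : K) ∧ valAt f ((residue V).comp φ) = residue V r

theorem valVaries_of_DVR {f : PtFun (Spec (CommRingCat.of A))} (hf : f.VariesAlongDVR) : ValVaries f :=
  fun K _ V hV φ => by
    haveI := hV
    obtain ⟨r, hr⟩ := valAt_varies f φ (hf V _)
    exact ⟨r, hr K V.subtype, hr _ (residue V)⟩

theorem val_of_local_extension (f : PtFun (Spec (CommRingCat.of A))) {K : Type u} [Field K] (V : ValuationSubring K)
    (φ : A →+* V) {B : Type u} [CommRing B] [IsDomain B] [IsLocalRing B] (ι : V →+* B) [IsLocalHom ι]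
    (hinj : Function.Injective ι) (r' : B)
    (hr' : ∀ (L : Type u) [Field L] (ψ : B →+* L), valAt f (ψ.comp (ι.comp φ)) = ψ r') :
    ∃ r : V, valAt f (V.subtype.comp φ) = (r : K) ∧ valAt f ((residue V).comp φ) = residue V r := by
  let M := FractionRing B
  have hinj' : Function.Injective ((algebraMap B M).comp ι) := (IsFractionRing.injective B M).comp hinj
  let j : K →+* M := IsFractionRing.lift (A := V) (g := (algebraMap B M).comp ι) hinj'
  have hj : ∀ v : V, j (v : K) = algebraMap B M (ι v) := fun v => IsFractionRing.lift_algebraMap hinj' v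
  have hj' : j.comp V.subtype = (algebraMap B M).comp ι := RingHom.ext hj
  have hz : j (valAt f (V.subtype.comp φ)) = algebraMap B M r' := by
    rw [← valAt_comp, ← RingHom.comp_assoc, hj', RingHom.comp_assoc]
    exact hr' M (algebraMap B M)
  obtain ⟨z, hzdef⟩ : ∃ z, valAt f (V.subtype.comp φ) = z := ⟨_, rfl⟩
  rw [hzdef] at hz ⊢
  have hzV : z ∈ V := by
    by_contra hzV
    have hinv : z⁻¹ ∈ V := (V.mem_or_inv_mem z).resolve_left hzV
    have h1 : ι ⟨z⁻¹, hinv⟩ * r' = 1 := by
      apply IsFractionRing.injective B M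
      rw [map_mul, map_one, ← hz, ← hj, ← map_mul, inv_mul_cancel₀ (fun h : z = 0 => hzV (by rw [h]; exact V.zero_mem)), map_one]
    obtain ⟨w, hw⟩ := (isUnit_of_map_unit ι _ (IsUnit.of_mul_eq_one r' h1)).exists_right_inv
    have hw' : z⁻¹ * (w : K) = 1 := congrArg Subtype.val hw
    exact hzV (inv_inv z ▸ (eq_inv_of_mul_eq_one_right hw') ▸ w.2)
  have hr : ι ⟨z, hzV⟩ = r' := by
    apply IsFractionRing.injective B M
    rw [← hz, ← hj]
  refine ⟨⟨z, hzV⟩, rfl, ?_⟩
  apply RingHom.injective (ResidueField.map ι)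
  rw [← valAt_comp, ← RingHom.comp_assoc, ResidueField.map_comp_residue, RingHom.comp_assoc,
    hr' _ (residue B), ← hr, ResidueField.map_residue]

theorem valVaries_of_completeDVR {f : PtFun (Spec (CommRingCat.of A))} (hf : f.VariesAlongCompleteDVR) :
    ValVaries f := fun K _ V hV φ => by
  haveI := hV
  obtain ⟨hdom, hdvr, hinj⟩ := isDVR_completion (V := V)
  obtain ⟨r', hr'⟩ := valAt_varies f
    ((algebraMap V (AdicCompletion (maximalIdeal V) V)).comp φ)
    (@hf (AdicCompletion (maximalIdeal V) V) _ hdom hdvr inferInstance _)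
  exact val_of_local_extension f V φ (algebraMap V (AdicCompletion (maximalIdeal V) V)) hinj r' hr'

theorem valAt_of_same_ker (f : PtFun (Spec (CommRingCat.of A))) {N : Type u} [CommRing N] (α : A →+* N) {L₁ L₂ : Type u}
    [Field L₁] [Field L₂] (g₁ : N →+* L₁) (g₂ : N →+* L₂) (hg : RingHom.ker g₁ = RingHom.ker g₂) (c : N)
    (h : valAt f (g₁.comp α) = g₁ c) : valAt f (g₂.comp α) = g₂ c := by
  haveI := RingHom.ker_isPrime g₁
  let q : Ideal N := RingHom.ker g₁
  let M := FractionRing (N ⧸ q)
  let ψ : N →+* M := (algebraMap (N ⧸ q) M).comp (Ideal.Quotient.mk q)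
  have hfactor : ∀ (L : Type u) [Field L] (g : N →+* L), RingHom.ker g = q → ∃ e : M →+* L, e.comp ψ = g := by
    intro L _ g hgq
    let g' : N ⧸ q →+* L := Ideal.Quotient.lift q g fun a ha => by rwa [← RingHom.mem_ker, hgq]
    have hg' : Function.Injective g' := (injective_iff_map_eq_zero _).mpr fun y hy => by
      obtain ⟨y, rfl⟩ := Ideal.Quotient.mk_surjective y
      rw [Ideal.Quotient.eq_zero_iff_mem, ← hgq, RingHom.mem_ker]
      exact hy
    exact ⟨IsFractionRing.lift hg', RingHom.ext fun y => IsFractionRing.lift_algebraMap hg' _⟩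
  obtain ⟨e₁, he₁⟩ := hfactor L₁ g₁ rfl
  obtain ⟨e₂, he₂⟩ := hfactor L₂ g₂ hg.symm
  rw [← he₂, RingHom.comp_assoc, valAt_comp]
  rw [← he₁, RingHom.comp_assoc, valAt_comp] at h
  exact congrArg e₂ (RingHom.injective e₁ h)

theorem exists_mem_norm [IsReduced A] [IsNoetherianRing A] (hfin : Module.Finite A (Norm A))
    (f : PtFun (Spec (CommRingCat.of A))) (hf : ValVaries f) :
    ∃ b : Norm A, ∀ (L : Type u) [Field L] (θ : Norm A →+* L), valAt f (θ.comp (algebraMap A (Norm A))) = θ b := by
  classical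
  let K := fun P : MinP A => FractionRing (A ⧸ P.1)
  let z : ∀ P : MinP A, K P := fun P => valAt f (algebraMap A (K P))
  haveI hNn : IsNoetherianRing (Norm A) := IsNoetherianRing.of_finite A (Norm A)
  haveI hCn : ∀ P, IsNoetherianRing (NormC A P) := fun P =>
    isNoetherianRing_of_surjective _ _ (proj A P).toRingHom (proj_surjective A P)
  haveI := fun P => isFractionRing_normC A P
  haveI := fun P => isIntegrallyClosed_normC A P
  have hV : ∀ (P : MinP A) (V : ValuationSubring (K P)), IsDiscreteValuationRing V →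
      ∀ h : ∀ c : NormC A P, algebraMap (NormC A P) (K P) c ∈ V,
      let ρ : NormC A P →+* V := (algebraMap (NormC A P) (K P)).codRestrict V.toSubring h
      z P ∈ V ∧ ∀ r : V, (r : K P) = z P → valAt f ((residue V).comp (ρ.comp (algebraMap A (NormC A P)))) = residue V r := by
    intro P V hVd h ρ
    obtain ⟨r, hr, hr'⟩ := hf (K P) V hVd (ρ.comp (algebraMap A (NormC A P)))
    have e : V.subtype.comp (ρ.comp (algebraMap A (NormC A P))) = algebraMap A (K P) :=
      RingHom.ext fun a => rfl
    rw [e] at hr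
    have hrz : (r : K P) = z P := hr.symm
    exact ⟨hrz ▸ r.2, fun r' h' => (Subtype.ext (h'.trans hrz.symm) : r' = r) ▸ hr'⟩
  have hzint : ∀ P, IsIntegral A (z P) := fun P => by
    by_contra hz
    have hbot : z P ∉ (⊥ : Subalgebra (NormC A P) (K P)) := fun hb => by
      obtain ⟨c, hc⟩ := Algebra.mem_bot.mp hb
      exact hz (hc ▸ c.2)
    rw [← MaximalSpectrum.iInf_localization_eq_bot (NormC A P) (K P), Algebra.mem_iInf] at hbot
    simp only [not_forall] at hbot
    obtain ⟨m, hm⟩ := hbot
    let Cm := Localization.subalgebra.ofField (K P) m.asIdeal.primeCompl m.asIdeal.primeCompl_le_nonZeroDivisors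
    haveI : IsLocalization.AtPrime Cm m.asIdeal :=
      Localization.subalgebra.isLocalization_ofField (K P) m.asIdeal.primeCompl m.asIdeal.primeCompl_le_nonZeroDivisors
    haveI : IsFractionRing Cm (K P) :=
      Localization.subalgebra.isFractionRing_ofField (K P) m.asIdeal.primeCompl m.asIdeal.primeCompl_le_nonZeroDivisors
    haveI : IsLocalRing Cm := IsLocalization.AtPrime.isLocalRing Cm m.asIdeal
    haveI : IsNoetherianRing Cm := IsLocalization.isNoetherianRing m.asIdeal.primeCompl Cm inferInstance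
    haveI : IsIntegrallyClosed Cm :=
      isIntegrallyClosed_of_isLocalization Cm m.asIdeal.primeCompl m.asIdeal.primeCompl_le_nonZeroDivisors
    obtain ⟨V, hVd, hVc, hzV⟩ := Groth.Agent.Rat20Lib.exists_dvr_notMem (A := Cm) (K := K P) (b := z P)
      (by rintro ⟨c, hc⟩; exact hm (hc ▸ c.2))
    exact hzV (hV P V hVd fun c => (hVc (algebraMap (NormC A P) Cm c)).1).1
  obtain ⟨b₀, hb₀⟩ := toPi_surjective A z
  have hb₀i : IsIntegral A b₀ := by
    rw [← isIntegral_algHom_iff (toPi A) (toPi_injective A), hb₀]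
    exact isIntegral_pi A hzint
  refine ⟨⟨b₀, hb₀i⟩, fun L _ θ => ?_⟩
  obtain ⟨P, -, hP⟩ : ∃ P ∈ (@Finset.univ (MinP A) (Fintype.ofFinite _)), RingHom.ker (proj A P).toRingHom ≤ RingHom.ker θ := by
    letI := Fintype.ofFinite (MinP A)
    refine (RingHom.ker_isPrime θ).inf_le'.mp ?_
    intro x hx
    rw [Submodule.mem_finsetInf] at hx
    rw [show x = 0 from proj_ext A fun Q => (hx Q (Finset.mem_univ Q) : proj A Q x = 0).trans (map_zero _).symm]
    exact zero_mem _
  let θ' : NormC A P →+* L := (proj A P).toRingHom.liftOfSurjective (proj_surjective A P) ⟨θ, hP⟩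
  have hθ : θ'.comp (proj A P).toRingHom = θ := RingHom.liftOfRightInverse_comp _ _ _ _
  let c : NormC A P := ⟨z P, hzint P⟩
  have hc : proj A P ⟨b₀, hb₀i⟩ = c := Subtype.ext (congrFun hb₀ P)
  rw [← hθ, RingHom.comp_assoc, RingHom.comp_apply,
    show ((proj A P).toRingHom.comp (algebraMap A (Norm A))) = algebraMap A (NormC A P) from (proj A P).comp_algebraMap,
    show (proj A P).toRingHom ⟨b₀, hb₀i⟩ = c from hc]
  by_cases hq : RingHom.ker θ' = ⊥
  · have hinj : Function.Injective θ' := (RingHom.injective_iff_ker_eq_bot θ').mpr hq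
    let j : K P →+* L := IsFractionRing.lift (A := NormC A P) hinj
    have hj : j.comp (algebraMap (NormC A P) (K P)) = θ' := RingHom.ext fun x => IsFractionRing.lift_algebraMap hinj x
    rw [← hj, RingHom.comp_assoc, valAt_comp, RingHom.comp_apply]
    rfl
  · haveI := RingHom.ker_isPrime θ'
    obtain ⟨V, hVd, hVc⟩ := Groth.Agent.Rat20Lib.exists_dvr_centre (K := K P) (RingHom.ker θ') hq
    obtain ⟨hzV, hres⟩ := hV P V hVd fun x => (hVc x).1
    let ρ : NormC A P →+* V := (algebraMap (NormC A P) (K P)).codRestrict V.toSubring fun x => (hVc x).1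
    have hker : RingHom.ker ((residue V).comp ρ) = RingHom.ker θ' := by
      ext x
      rw [RingHom.mem_ker, RingHom.comp_apply, residue_eq_zero_iff, ← ValuationSubring.coe_mem_nonunits_iff]
      exact (hVc x).2
    exact valAt_of_same_ker f (algebraMap A (NormC A P)) ((residue V).comp ρ) θ' hker c (hres (ρ c) rfl)

theorem eq_of_forall_ringHom [IsReduced A] {a b : A} (h : ∀ (L : Type u) [Field L] (χ : A →+* L), χ a = χ b) : a = b := by
  refine sub_eq_zero.mp (IsNilpotent.eq_zero (nilpotent_iff_mem_prime.mpr fun J hJ => ?_))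
  have := h (FractionRing (A ⧸ J)) ((algebraMap _ _).comp (Ideal.Quotient.mk J))
  rw [← sub_eq_zero, ← map_sub, RingHom.comp_apply, IsFractionRing.to_map_eq_zero_iff, Ideal.Quotient.eq_zero_iff_mem] at this
  exact this

theorem existsUnique_section_of_mem_norm [IsReduced A] (f : PtFun (Spec (CommRingCat.of A))) (a₀ : A)
    (h : ∀ (L : Type u) [Field L] (χ : A →+* L), valAt f χ = χ a₀) :
    ∃! a : Γ(Spec (CommRingCat.of A), ⊤), PtFun.ofSection (Spec (CommRingCat.of A)) a = f := by
  have h1 : (Scheme.ΓSpecIso (CommRingCat.of A)).hom ((Scheme.ΓSpecIso (CommRingCat.of A)).inv a₀) = a₀ := by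
    rw [← ConcreteCategory.comp_apply, Iso.inv_hom_id]
    rfl
  refine ⟨(Scheme.ΓSpecIso (CommRingCat.of A)).inv a₀, ofSection_eq f _ fun L _ χ => by rw [h1, h L χ], fun b hb => ?_⟩
  refine (Scheme.ΓSpecIso (CommRingCat.of A)).commRingCatIsoToRingEquiv.injective ?_
  refine (eq_of_forall_ringHom fun L _ χ => ?_).trans h1.symm
  rw [← h L χ, ← hb]
  exact (valAt_ofSection b χ).symm

theorem existsUnique_section_of_isIntegrallyClosed [IsReduced A] [IsNoetherianRing A] [IsIntegrallyClosed A]
    (f : PtFun (Spec (CommRingCat.of A))) (hf : f.VariesAlongDVR) :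
    ∃! a : Γ(Spec (CommRingCat.of A), ⊤), PtFun.ofSection (Spec (CommRingCat.of A)) a = f := by
  have hsurj : Function.Surjective (algebraMap A (Norm A)) := fun x => by
    obtain ⟨a, ha⟩ := IsIntegrallyClosed.isIntegral_iff.mp x.2
    exact ⟨a, Subtype.ext ha⟩
  have hbij : Function.Bijective (algebraMap A (Norm A)) :=
    ⟨fun a b h => IsFractionRing.injective A (FractionRing A) (congrArg Subtype.val h), hsurj⟩
  haveI : Module.Finite A (Norm A) := Module.Finite.of_surjective (Algebra.linearMap A (Norm A)) hsurj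
  obtain ⟨b, hb⟩ := exists_mem_norm inferInstance f (valVaries_of_DVR hf)
  obtain ⟨a, rfl⟩ := hsurj b
  refine existsUnique_section_of_mem_norm f a fun L _ χ => ?_
  let θ : Norm A →+* L := χ.comp (RingEquiv.ofBijective _ hbij).symm.toRingHom
  have hθ : θ.comp (algebraMap A (Norm A)) = χ := RingHom.ext fun x =>
    congrArg χ ((RingEquiv.ofBijective _ hbij).symm_apply_apply x)
  rw [← hθ]
  exact hb L θ

theorem exists_preimage_of_values (hA : IsSeminormalRing A) {N : Type u} [CommRing N] [IsReduced N] [Algebra A N]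
    (hinjN : Function.Injective (algebraMap A N)) (hNint : ∀ x : N, _root_.IsIntegral A x)
    (f : PtFun (Spec (CommRingCat.of A))) (b : N)
    (hb : ∀ (L : Type u) [Field L] (θ : N →+* L), valAt f (θ.comp (algebraMap A N)) = θ b) :
    ∃ a : A, algebraMap A N a = b := by
  let κ := fun p : PrimeSpectrum A => p.asIdeal.ResidueField
  let C : Subalgebra A N :=
    { carrier := {c | ∃ G : ∀ p, κ p, ∀ (L : Type u) [Field L] (θ : N →+* L) (p : PrimeSpectrum A)
        (e : κ p →+* L), θ.comp (algebraMap A N) = e.comp (algebraMap A (κ p)) → θ c = e (G p)}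
      add_mem' := by
        rintro c d ⟨G, hG⟩ ⟨H, hH⟩
        exact ⟨fun p => G p + H p, fun L _ θ p e h => by rw [map_add, map_add, hG L θ p e h, hH L θ p e h]⟩
      mul_mem' := by
        rintro c d ⟨G, hG⟩ ⟨H, hH⟩
        exact ⟨fun p => G p * H p, fun L _ θ p e h => by rw [map_mul, map_mul, hG L θ p e h, hH L θ p e h]⟩
      algebraMap_mem' := fun a => ⟨fun p => algebraMap A (κ p) a, fun L _ θ p e h => RingHom.congr_fun h a⟩ }
  have hbC : b ∈ C := ⟨fun p => valAt f (algebraMap A (κ p)), fun L _ θ p e h => by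
    rw [← hb L θ, h, valAt_comp]⟩
  have hinj : Function.Injective (algebraMap A C) := fun a a' h => hinjN (congrArg Subtype.val h)
  have hint : (algebraMap A C).IsIntegral := fun (x : C) =>
    (isIntegral_algHom_iff (A := C) C.val Subtype.val_injective).mp (hNint x.1)
  have hι : (C.val.toRingHom).IsIntegral := RingHom.IsIntegral.tower_top (algebraMap A C) _
    (fun x => hNint x)
  have hlift : ∀ (K : Type u) [Field K] (g : C →+* K), ∃ (θ : N →+* AlgebraicClosure K)
      (p : PrimeSpectrum A) (e : κ p →+* AlgebraicClosure K),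
      θ.comp C.val.toRingHom = (algebraMap K (AlgebraicClosure K)).comp g ∧
        θ.comp (algebraMap A N) = e.comp (algebraMap A (κ p)) ∧ p.asIdeal = RingHom.ker (g.comp (algebraMap A C)) := by
    intro K _ g
    obtain ⟨q, hq⟩ := hι.comap_surjective Subtype.val_injective
      ⟨_, RingHom.ker_isPrime ((algebraMap K (AlgebraicClosure K)).comp g)⟩
    obtain ⟨θ, hθ⟩ := exists_extension C.val.toRingHom hι ((algebraMap K (AlgebraicClosure K)).comp g)
      ⟨q, congrArg PrimeSpectrum.asIdeal hq⟩
    let p : PrimeSpectrum A := ⟨RingHom.ker (g.comp (algebraMap A C)), RingHom.ker_isPrime _⟩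
    haveI : p.asIdeal.IsPrime := p.isPrime
    have hp : ∀ a, a ∈ p.asIdeal ↔ θ (algebraMap A N a) = 0 := fun a => by
      rw [show θ (algebraMap A N a) = algebraMap K (AlgebraicClosure K) (g (algebraMap A C a)) from
        RingHom.congr_fun hθ (algebraMap A C a), map_eq_zero]
      exact RingHom.mem_ker
    exact ⟨θ, p, Ideal.ResidueField.lift p.asIdeal (θ.comp (algebraMap A N)) (fun a ha => RingHom.mem_ker.mpr ((hp a).mp ha))
        (fun a ha => isUnit_iff_ne_zero.mpr fun h0 => ha ((hp a).mpr h0)),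
      hθ, RingHom.ext fun a => by rw [RingHom.comp_apply, RingHom.comp_apply, Ideal.ResidueField.lift_algebraMap]; rfl, rfl⟩
  have hu : FlatMor.IsUnivHomeo (Spec.map (CommRingCat.ofHom (algebraMap A C))) := by
    refine (isUnivHomeo_SpecMap_iff _).mpr ⟨hint, fun K _ g₁ g₂ hg => RingHom.ext fun c => ?_,
      hint.comap_surjective hinj⟩
    obtain ⟨G, hG⟩ := c.2
    obtain ⟨θ₁, p₁, e₁, h1, h1', hp1⟩ := hlift K g₁
    obtain ⟨θ₂, p₂, e₂, h2, h2', hp2⟩ := hlift K g₂
    obtain rfl : p₁ = p₂ := PrimeSpectrum.ext (by rw [hp1, hp2, hg])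
    have hee : e₁ = e₂ := by
      refine Ideal.ResidueField.ringHom_ext ?_
      rw [← h1', ← h2', show algebraMap A N = C.val.toRingHom.comp (algebraMap A C) from rfl,
        ← RingHom.comp_assoc, ← RingHom.comp_assoc, h1, h2, RingHom.comp_assoc, RingHom.comp_assoc, hg]
    apply RingHom.injective (algebraMap K (AlgebraicClosure K))
    rw [← RingHom.comp_apply, ← RingHom.comp_apply, ← h1, ← h2]
    exact (hG _ θ₁ p₁ e₁ h1').trans (hee ▸ (hG _ θ₂ p₁ e₂ h2').symm)
  haveI : IsReduced C := isReduced_of_injective C.val.toRingHom Subtype.val_injective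
  have hbij := bijective_of_seminormal hA (algebraMap A C) hinj hu fun q => by
    rw [residueFieldMap_surjective_iff]
    intro c
    obtain ⟨G, hG⟩ := c.2
    haveI := q.isPrime
    obtain ⟨θ, p, e, h1, h1', hp⟩ := hlift (FractionRing (C ⧸ q.asIdeal))
      ((algebraMap _ _).comp (Ideal.Quotient.mk q.asIdeal))
    obtain ⟨x, s, hs, hxs⟩ := IsFractionRing.div_surjective (A := A ⧸ p.asIdeal) (G p)
    obtain ⟨a, rfl⟩ := Ideal.Quotient.mk_surjective x
    obtain ⟨t, rfl⟩ := Ideal.Quotient.mk_surjective s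
    have hqmem : ∀ d : C, d ∈ q.asIdeal ↔ θ d.1 = 0 := fun d => by
      rw [show θ d.1 = algebraMap _ (AlgebraicClosure _) (algebraMap _ (FractionRing (C ⧸ q.asIdeal)) (Ideal.Quotient.mk q.asIdeal d))
        from RingHom.congr_fun h1 d, map_eq_zero, IsFractionRing.to_map_eq_zero_iff, Ideal.Quotient.eq_zero_iff_mem]
    have htp : t ∉ p.asIdeal := fun ht => nonZeroDivisors.ne_zero hs (Ideal.Quotient.eq_zero_iff_mem.mpr ht)
    refine ⟨a, t, fun hmem => htp ?_, ?_⟩
    · have := (hqmem _).mp hmem
      rw [show θ (algebraMap A C t).1 = e (algebraMap A (κ p) t) from RingHom.congr_fun h1' t, map_eq_zero,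
        Ideal.algebraMap_residueField_eq_zero] at this
      exact this
    · rw [hqmem]
      change θ (algebraMap A N t * c.1 - algebraMap A N a) = 0
      rw [map_sub, map_mul, hG _ θ p e h1', show θ (algebraMap A N t) = e (algebraMap A (κ p) t) from RingHom.congr_fun h1' t,
        show θ (algebraMap A N a) = e (algebraMap A (κ p) a) from RingHom.congr_fun h1' a, ← map_mul, ← map_sub, ← hxs]
      have ht0 : algebraMap (A ⧸ p.asIdeal) (κ p) (Ideal.Quotient.mk _ t) ≠ 0 :=
        fun h => nonZeroDivisors.ne_zero hs (IsFractionRing.to_map_eq_zero_iff.mp h)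
      rw [show algebraMap A (κ p) t = algebraMap (A ⧸ p.asIdeal) (κ p) (Ideal.Quotient.mk _ t) from
          IsScalarTower.algebraMap_apply A (A ⧸ p.asIdeal) (κ p) t,
        show algebraMap A (κ p) a = algebraMap (A ⧸ p.asIdeal) (κ p) (Ideal.Quotient.mk _ a) from
          IsScalarTower.algebraMap_apply A (A ⧸ p.asIdeal) (κ p) a,
        mul_div_cancel₀ _ ht0, sub_self, map_zero]
  obtain ⟨a, ha⟩ := hbij.2 ⟨b, hbC⟩
  exact ⟨a, congrArg Subtype.val ha⟩

theorem existsUnique_section_of_isSeminormalRing [IsNoetherianRing A] (hA : IsSeminormalRing A)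
    (hfin : Module.Finite A (Norm A)) (f : PtFun (Spec (CommRingCat.of A))) (hf : f.VariesAlongCompleteDVR) :
    ∃! a : Γ(Spec (CommRingCat.of A), ⊤), PtFun.ofSection (Spec (CommRingCat.of A)) a = f := by
  haveI := isReduced_of_seminormal hA
  haveI : IsReduced (FractionRing A) :=
    isReduced_localizationPreserves (nonZeroDivisors A) (FractionRing A) inferInstance
  haveI : IsReduced (Norm A) := isReduced_of_injective (Norm A).val.toRingHom Subtype.val_injective
  obtain ⟨b, hb⟩ := exists_mem_norm hfin f (valVaries_of_completeDVR hf)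
  have hinjN : Function.Injective (algebraMap A (Norm A)) := fun a a' h =>
    IsFractionRing.injective A (FractionRing A) (congrArg Subtype.val h)
  obtain ⟨a, ha⟩ := exists_preimage_of_values hA hinjN
    (fun x => (isIntegral_algHom_iff (Norm A).val Subtype.val_injective).mp x.2) f b hb
  refine existsUnique_section_of_mem_norm f a fun L _ χ => ?_
  let χ' := (algebraMap L (AlgebraicClosure L)).comp χ
  have hN : (algebraMap A (Norm A)).IsIntegral := fun x =>
    (isIntegral_algHom_iff (Norm A).val Subtype.val_injective).mp x.2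
  obtain ⟨q, hq⟩ := hN.comap_surjective hinjN ⟨_, RingHom.ker_isPrime χ'⟩
  obtain ⟨θ, hθ⟩ := exists_extension (algebraMap A (Norm A)) hN χ' ⟨q, congrArg PrimeSpectrum.asIdeal hq⟩
  apply RingHom.injective (algebraMap L (AlgebraicClosure L))
  rw [← valAt_comp]
  change valAt f χ' = χ' a
  rw [← hθ, hb _ θ, RingHom.comp_apply]
  exact congrArg θ ha.symm

end algebra

end Groth.Agent.HTopAwn
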