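import Groth.Agent.HTopAwn.SchemeProps
import Groth.Agent.S15941
import Groth.Prelude.Def_W4c1hilbchowincPtFun

/-!
The pointwise function `y / x` attached to a solution of `x ^ 3 = y ^ 2`.
-/

set_option backward.isDefEq.respectTransparency false
set_option backward.isDefEq.respectTransparency.types false

universe u

namespace Groth.Agent.HTopAwn

open AlgebraicGeometry CategoryTheory HTop W4c1hilbchowinc

theorem pullback_ofSection {X Y : Scheme.{u}} (g : Y ⟶ X) (s : Γ(X, ⊤)) :
    PtFun.pullback g (PtFun.ofSection X s) = PtFun.ofSection Y (g.appTop s) :=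
  funext fun y => Scheme.Γevaluation_naturality_apply g y s

theorem div_eq_self_of_pow {K : Type u} [Field K] (a : K) : a ^ 3 / a ^ 2 = a := by
  rcases eq_or_ne a 0 with rfl | h
  · simp
  · field_simp

theorem sq_div_of_cube_eq {K : Type u} [Field K] {x y : K} (h : x ^ 3 = y ^ 2) :
    (y / x) ^ 2 = x ∧ (y / x) ^ 3 = y := by
  rcases eq_or_ne x 0 with rfl | hx
  · have hy : y = 0 := by
      rw [zero_pow three_ne_zero, eq_comm, pow_eq_zero_iff two_ne_zero] at h
      exact h
    simp [hy]
  · refine ⟨?_, ?_⟩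
    · rw [div_pow, ← h]
      field_simp
    · rw [div_pow, h, pow_succ, mul_div_cancel_left₀]
      exact h ▸ pow_ne_zero _ hx

theorem isSeminormalRing_of_ptFun {A : Type u} [CommRing A]
    (h : ∀ f : PtFun (Spec (CommRingCat.of A)), f.VariesAlongDVR →
      ∃! a : Γ(Spec (CommRingCat.of A), ⊤), PtFun.ofSection (Spec (CommRingCat.of A)) a = f) :
    IsSeminormalRing A := by
  let X := Spec (CommRingCat.of A)
  let e : Γ(X, ⊤) ≃+* A := (Scheme.ΓSpecIso (CommRingCat.of A)).commRingCatIsoToRingEquiv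
  refine seminormal_of_ringEquiv e fun x y hxy => ?_
  have hinj : ∀ a b : Γ(X, ⊤), (∀ p, X.Γevaluation p a = X.Γevaluation p b) → a = b := fun a b hab => by
    refine (h (PtFun.ofSection X b) fun R _ _ _ g => ⟨g.appTop b, ?_⟩).unique (funext hab) rfl
    exact (pullback_ofSection g b).symm
  let f : PtFun X := fun p => X.Γevaluation p y / X.Γevaluation p x
  have hf : f.VariesAlongDVR := fun R _ _ _ g => by
    have hR : IsSeminormalRing Γ(Spec (CommRingCat.of R), ⊤) :=
      seminormal_of_ringEquiv (Scheme.ΓSpecIso (CommRingCat.of R)).commRingCatIsoToRingEquiv.symm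
        (Groth.Agent.S15941.result R)
    obtain ⟨a, ⟨ha2, ha3⟩, -⟩ := hR (g.appTop x) (g.appTop y) (by rw [← map_pow, hxy, map_pow])
    refine ⟨a, funext fun q => ?_⟩
    change _ = g.residueFieldMap q (X.Γevaluation (g q) y / X.Γevaluation (g q) x)
    rw [map_div₀, Scheme.Γevaluation_naturality_apply, Scheme.Γevaluation_naturality_apply, ha2, ha3,
      map_pow, map_pow, div_eq_self_of_pow]
    rfl
  obtain ⟨a, ha, -⟩ := h f hf
  have hev : ∀ p, X.Γevaluation p a = X.Γevaluation p y / X.Γevaluation p x := fun p => congrFun ha p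
  have hc : ∀ p, (X.Γevaluation p x) ^ 3 = (X.Γevaluation p y) ^ 2 := fun p => by rw [← map_pow, hxy, map_pow]
  refine ⟨a, ⟨hinj _ _ fun p => ?_, hinj _ _ fun p => ?_⟩, fun b hb => hinj _ _ fun p => ?_⟩
  · rw [map_pow, hev p, (sq_div_of_cube_eq (hc p)).1]
  · rw [map_pow, hev p, (sq_div_of_cube_eq (hc p)).2]
  · rw [hev p, hb.1, hb.2, map_pow, map_pow, div_eq_self_of_pow]

end Groth.Agent.HTopAwn
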