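import Groth.Agent.HTopAwn.SchemeProps

/-!
Base change of trivial residue field extensions, and restriction of seminormalizations to opens.
-/

set_option backward.isDefEq.respectTransparency false
set_option backward.isDefEq.respectTransparency.types false

universe u

namespace Groth.Agent.HTopAwn

open AlgebraicGeometry CategoryTheory Limits Scheme Groth.Agent.MorLib Groth.Agent.MorLib.RUH HTop

variable {X Y V : Scheme.{u}}

/-- A point of the fibre defined over the residue field of the base gives surjectivity on residue fields. -/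
theorem surjective_residueFieldMap_of_lift (f : Y ⟶ X) (x : X) (b : Spec (X.residueField x) ⟶ Y)
    (hb : b ≫ f = X.fromSpecResidueField x) (pt : Spec (X.residueField x)) :
    Function.Surjective (f.residueFieldMap (b pt)) := by
  obtain ⟨⟨y, φ⟩, rfl⟩ := (Scheme.SpecToEquivOfField (X.residueField x) Y).symm.surjective b
  change Function.Surjective (f.residueFieldMap ((Spec.map φ ≫ Y.fromSpecResidueField y) pt))
  rw [Scheme.Hom.comp_apply, Scheme.fromSpecResidueField_apply]
  change (Spec.map φ ≫ Y.fromSpecResidueField y) ≫ f = _ at hb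
  have hx : f y = x := by
    have := congr($hb pt)
    simpa only [Scheme.Hom.comp_apply, Scheme.fromSpecResidueField_apply] using this
  subst hx
  rw [Category.assoc, ← Scheme.Hom.SpecMap_residueFieldMap_fromSpecResidueField, ← Category.assoc,
    ← Spec.map_comp] at hb
  have h1 : f.residueFieldMap y ≫ φ = 𝟙 _ := Spec.map_injective <| by
    rw [← cancel_mono (X.fromSpecResidueField (f y)), hb, Spec.map_id]
    exact (Category.id_comp _).symm
  intro z
  exact ⟨φ z, RingHom.injective φ.hom congr($h1 (φ z))⟩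

theorem residueFieldsIso_pullback_snd (π : Y ⟶ X) (j : V ⟶ X) [UniversallyInjective π] (hr : ResidueFieldsIso π) :
    ResidueFieldsIso (pullback.snd π j) := by
  intro z
  let v := pullback.snd π j z
  let y := pullback.fst π j z
  have e : π y = j v := by
    change (pullback.fst π j ≫ π) z = (pullback.snd π j ≫ j) z
    rw [pullback.condition]
  haveI := hr y
  let a : Spec (V.residueField v) ⟶ Y :=
    Spec.map (inv (π.residueFieldMap y) ≫ (X.residueFieldCongr e).hom ≫ j.residueFieldMap v) ≫ Y.fromSpecResidueField y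
  have ha : a ≫ π = V.fromSpecResidueField v ≫ j := by
    rw [Category.assoc, ← Scheme.Hom.SpecMap_residueFieldMap_fromSpecResidueField, ← Category.assoc,
      ← Spec.map_comp, IsIso.hom_inv_id_assoc, Spec.map_comp, Category.assoc,
      Scheme.residueFieldCongr_fromSpecResidueField, Scheme.Hom.SpecMap_residueFieldMap_fromSpecResidueField]
  let b := pullback.lift a (V.fromSpecResidueField v) ha
  have hb : b ≫ pullback.snd π j = V.fromSpecResidueField v := pullback.lift_snd _ _ _
  let pt : Spec (V.residueField v) := IsLocalRing.closedPoint (V.residueField v)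
  have hz : b pt = z := by
    haveI : UniversallyInjective (pullback.snd π j) :=
      MorphismProperty.pullback_snd π j inferInstance
    apply (pullback.snd π j).injective
    have := congr($hb pt)
    simpa only [Scheme.Hom.comp_apply, Scheme.fromSpecResidueField_apply] using this
  refine (ConcreteCategory.isIso_iff_bijective _).mpr ⟨RingHom.injective _, ?_⟩
  rw [← hz]
  exact surjective_residueFieldMap_of_lift _ v b hb pt

/-- A universal homeomorphism with trivial residue extensions from a reduced scheme to a seminormal one is an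
isomorphism. -/
theorem isIso_of_isSeminormal [IsReduced Y] (hX : IsSeminormal X) {π : Y ⟶ X} (hπ : FlatMor.IsUnivHomeo π)
    (hr : ResidueFieldsIso π) : IsIso π := by
  haveI := isReduced_of_isSeminormal hX
  haveI := isAffineHom_of_isUnivHomeo hπ
  refine isIso_of_bijective_app hπ fun x => ?_
  obtain ⟨U, hxU, h⟩ := hX x
  refine ⟨U, hxU, bijective_of_seminormal h _ (injective_app_of_univHomeo hπ U.2)
    (isUnivHomeo_app_of_affine hπ U.2) fun q => ?_⟩
  have hV : IsAffineOpen (π ⁻¹ᵁ (U : X.Opens)) := U.2.preimage π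
  have hc : Spec.map (π.app (U : X.Opens)) ≫ U.2.fromSpec = hV.fromSpec ≫ π := by
    rw [Scheme.Hom.app_eq_appLE, IsAffineOpen.SpecMap_appLE_fromSpec π U.2 hV le_rfl]
  haveI : IsOpenImmersion U.2.fromSpec := U.2.isOpenImmersion_fromSpec
  haveI : IsOpenImmersion hV.fromSpec := hV.isOpenImmersion_fromSpec
  haveI := hr (hV.fromSpec q)
  have hcomp : IsIso ((Spec.map (π.app (U : X.Opens)) ≫ U.2.fromSpec).residueFieldMap q) := by
    rw [hc, Scheme.residueFieldMap_comp]
    infer_instance
  rw [Scheme.residueFieldMap_comp] at hcomp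
  haveI := hcomp
  haveI := IsIso.of_isIso_comp_left (U.2.fromSpec.residueFieldMap (Spec.map (π.app (U : X.Opens)) q))
    ((Spec.map (π.app (U : X.Opens))).residueFieldMap q)
  exact ((ConcreteCategory.isIso_iff_bijective ((Spec.map (π.app (U : X.Opens))).residueFieldMap q)).mp inferInstance).2

theorem isSeminormal_opens (hX : IsSeminormal X) (U : X.Opens) : IsSeminormal U := by
  intro x
  obtain ⟨W, hxW, hW⟩ := hX x.1
  obtain ⟨f, hfU, hxf⟩ := W.2.exists_basicOpen_le (V := U ⊓ W) ⟨x.1, x.2, hxW⟩ hxW
  haveI := W.2.isLocalization_basicOpen f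
  have h := seminormal_of_ringEquiv
    (IsLocalization.algEquiv (Submonoid.powers f) (Localization.Away f) Γ(X, X.basicOpen f)).toRingEquiv
    (seminormal_away f hW)
  have hle : X.basicOpen f ≤ U := hfU.trans inf_le_left
  have heq : U.ι ''ᵁ (U.ι ⁻¹ᵁ X.basicOpen f) = X.basicOpen f := by
    rw [Scheme.Hom.image_preimage_eq_opensRange_inf, Scheme.Opens.opensRange_ι, inf_eq_right.mpr hle]
  refine ⟨⟨U.ι ⁻¹ᵁ X.basicOpen f, (W.2.basicOpen f).preimage_of_isOpenImmersion U.ι ?_⟩, hxf, ?_⟩
  · rwa [Scheme.Opens.opensRange_ι]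
  · exact seminormal_of_ringEquiv ((X.presheaf.mapIso (eqToIso heq).op) ≪≫
      (U.ι.appIso (U.ι ⁻¹ᵁ X.basicOpen f))).commRingCatIsoToRingEquiv h

theorem isSeminormalization_restrict {X' X : Scheme.{u}} (ν : X' ⟶ X) (hν : IsSeminormalization ν)
    (hX' : IsSeminormal X') (U : X.Opens) : IsSeminormalization (ν ∣_ U) := by
  haveI := universallyInjective_of_isUnivHomeo hν.1.1
  have hu : FlatMor.IsUnivHomeo (ν ∣_ U) := by
    obtain ⟨_, _, _⟩ := isUnivHomeo_iff.mp hν.1.1
    exact isUnivHomeo_iff.mpr ⟨IsZariskiLocalAtTarget.restrict (P := @UniversallyClosed) ‹_› U,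
      IsZariskiLocalAtTarget.restrict (P := @UniversallyInjective) ‹_› U,
      IsZariskiLocalAtTarget.restrict (P := @Surjective) ‹_› U⟩
  have hres : ResidueFieldsIso (ν ∣_ U) := fun y => by
    haveI := hν.1.2 ((ν ⁻¹ᵁ U).ι y)
    have hcomp : IsIso (((ν ∣_ U) ≫ U.ι).residueFieldMap y) := by
      rw [morphismRestrict_ι, Scheme.residueFieldMap_comp]
      infer_instance
    rw [Scheme.residueFieldMap_comp] at hcomp
    haveI := hcomp
    exact IsIso.of_isIso_comp_left (U.ι.residueFieldMap ((ν ∣_ U) y)) _
  refine ⟨⟨hu, hres⟩, fun Y π hπ hr => ?_⟩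
  have hV := isSeminormal_opens hX' (ν ⁻¹ᵁ U)
  haveI := isReduced_of_isSeminormal hV
  haveI := universallyInjective_of_isUnivHomeo hπ
  let P := pullback π (ν ∣_ U)
  let i := P.nilradical.subschemeι
  haveI := Groth.Agent.H23.RedSub.isReduced_nilradical P
  haveI : Surjective i := ⟨by
    rw [← Set.range_eq_univ, Scheme.IdealSheafData.range_subschemeι, Scheme.support_nilradical]; rfl⟩
  have hs : FlatMor.IsUnivHomeo (pullback.snd π (ν ∣_ U)) :=
    isUnivHomeo_of_isPullback (IsPullback.of_hasPullback π (ν ∣_ U)).flip hπ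
  obtain ⟨_, _, _⟩ := isUnivHomeo_iff.mp hs
  have hq : FlatMor.IsUnivHomeo (i ≫ pullback.snd π (ν ∣_ U)) :=
    isUnivHomeo_iff.mpr ⟨inferInstance, MorphismProperty.comp_mem @UniversallyInjective i _ inferInstance inferInstance, inferInstance⟩
  have hqr : ResidueFieldsIso (i ≫ pullback.snd π (ν ∣_ U)) := fun z => by
    haveI : IsIso (i.residueFieldMap z) := (ConcreteCategory.isIso_iff_bijective _).mpr
      ⟨RingHom.injective _, surjective_residueFieldMap_of_isClosedImmersion i z⟩
    haveI := residueFieldsIso_pullback_snd π (ν ∣_ U) hr (i z)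
    rw [Scheme.residueFieldMap_comp]
    infer_instance
  haveI := isIso_of_isSeminormal hV hq hqr
  refine ⟨inv (i ≫ pullback.snd π (ν ∣_ U)) ≫ i ≫ pullback.fst π (ν ∣_ U), ?_, fun h hh => ?_⟩
  · change (inv (i ≫ pullback.snd π (ν ∣_ U)) ≫ i ≫ pullback.fst π (ν ∣_ U)) ≫ π = ν ∣_ U
    rw [Category.assoc, Category.assoc, pullback.condition, ← Category.assoc i, IsIso.inv_hom_id_assoc]
  · refine hom_ext_of_univHomeo hπ ?_
    rw [hh, Category.assoc, Category.assoc, pullback.condition, ← Category.assoc i, IsIso.inv_hom_id_assoc]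

end Groth.Agent.HTopAwn
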