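import Groth.Agent.HTopAwn.Functor
import Mathlib.AlgebraicGeometry.Sites.SmallAffineZariski
import Mathlib.AlgebraicGeometry.Morphisms.Separated

/-!
The absolute weak normalization of a scheme.
-/

set_option backward.isDefEq.respectTransparency false
set_option backward.isDefEq.respectTransparency.types false

universe u

namespace Groth.Agent.HTopAwn

open AlgebraicGeometry CategoryTheory Limits Scheme.AffineZariskiSite Groth.Agent.MorLib
  Groth.Agent.MorLib.RUH HTop

variable {X Y Z : Scheme.{u}}

theorem isUnivHomeo_of_isPullback {P X' Y' : Scheme.{u}} {fst : P ⟶ Y'} {snd : P ⟶ X'} {f : Y' ⟶ Y}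
    {g : X' ⟶ Y} (h : IsPullback fst snd f g) (hg : FlatMor.IsUnivHomeo g) : FlatMor.IsUnivHomeo fst :=
  haveI : MorphismProperty.IsStableUnderBaseChange (FlatMor.IsUnivHomeo : MorphismProperty Scheme.{u}) :=
    inferInstanceAs (MorphismProperty.IsStableUnderBaseChange (MorphismProperty.universally _))
  MorphismProperty.of_isPullback (P := FlatMor.IsUnivHomeo) h.flip hg

/-- Two morphisms from a reduced scheme agreeing after a universal homeomorphism are equal. -/
theorem hom_ext_of_univHomeo [IsReduced Z] {π : Y ⟶ X} (hπ : FlatMor.IsUnivHomeo π) {a b : Z ⟶ Y}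
    (h : a ≫ π = b ≫ π) : a = b := by
  haveI := isAffineHom_of_isUnivHomeo hπ
  refine ext_of_fromSpecResidueField_eq a b π Set.univ dense_univ (fun z _ => ?_) h
  exact ((tfae_universallyInjective π).out 0 1 rfl rfl).mp (universallyInjective_of_isUnivHomeo hπ)
    (Z.residueField z) (by simp [h])

theorem isUnivHomeo_app_of_affine {π : Y ⟶ X} (hπ : FlatMor.IsUnivHomeo π) {U : X.Opens} (hU : IsAffineOpen U) :
    FlatMor.IsUnivHomeo (Spec.map (π.app U)) := by
  haveI := isAffineHom_of_isUnivHomeo hπ
  have hV : IsAffineOpen (π ⁻¹ᵁ U) := hU.preimage π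
  refine isUnivHomeo_of_isPullback (IsOpenImmersion.isPullback (Spec.map (π.app U)) hV.fromSpec hU.fromSpec π ?_ ?_) hπ
  · rw [Scheme.Hom.app_eq_appLE]
    exact (IsAffineOpen.SpecMap_appLE_fromSpec π hU hV le_rfl).symm
  · rw [hU.opensRange_fromSpec, hV.opensRange_fromSpec]

variable (X)

/-- The presheaf of absolute weak normalizations on affine opens. -/
noncomputable def awnPresheaf : X.AffineZariskiSiteᵒᵖ ⥤ CommRingCat.{u} where
  obj U := CommRingCat.of (awn Γ(X, U.unop.toOpens))
  map i := CommRingCat.ofHom (awnMap (((toOpensFunctor X).op ⋙ X.presheaf).map i).hom)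
  map_id U := by
    rw [CategoryTheory.Functor.map_id, CommRingCat.hom_id]
    exact congrArg CommRingCat.ofHom (awnMap_id (A := Γ(X, U.unop.toOpens)))
  map_comp i j := by
    rw [CategoryTheory.Functor.map_comp, CommRingCat.hom_comp]
    exact congrArg CommRingCat.ofHom (awnMap_comp (((toOpensFunctor X).op ⋙ X.presheaf).map i).hom
      (((toOpensFunctor X).op ⋙ X.presheaf).map j).hom)

/-- The structure map. -/
noncomputable def awnAlpha : (toOpensFunctor X).op ⋙ X.presheaf ⟶ awnPresheaf X where
  app U := CommRingCat.ofHom (algebraMap Γ(X, U.unop.toOpens) (awn Γ(X, U.unop.toOpens)))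
  naturality U V i := by
    ext a
    exact (RingHom.congr_fun (awnMap_comp_algebraMap (((toOpensFunctor X).op ⋙ X.presheaf).map i).hom) a).symm

theorem coequifibered_awnAlpha : (awnAlpha X).Coequifibered := by
  refine coequifibered_iff_forall_isLocalizationAway.mpr fun U f => ?_
  letI : Algebra Γ(X, U.1) Γ(X, X.basicOpen f) := (X.presheaf.map (homOfLE (X.basicOpen_le f)).op).hom.toAlgebra
  haveI : IsLocalization.Away f Γ(X, X.basicOpen f) := U.2.isLocalization_basicOpen f
  exact isLocalization_away_awnMap (A' := Γ(X, X.basicOpen f)) f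

/-- The gluing datum. -/
noncomputable def awnGlue : (directedCover X).RelativeGluingData :=
  relativeGluingData (coequifibered_awnAlpha X)

instance : ((awnGlue X).functor ⋙ Scheme.forget).IsLocallyDirected :=
  Scheme.Cover.RelativeGluingData.instIsLocallyDirectedI₀CompFunctorForgetOfIsThin ..

/-- The absolute weak normalization of a scheme. -/
noncomputable def awnScheme : Scheme.{u} := (awnGlue X).glued

/-- The projection. -/
noncomputable def awnTo : awnScheme X ⟶ X := (awnGlue X).toBase

/-- The affine cover. -/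
noncomputable def awnCover : (awnScheme X).OpenCover := (awnGlue X).cover

instance isOpenImmersion_awnCover (i) : IsOpenImmersion ((awnCover X).f i) := (awnCover X).map_prop i

theorem ι_awnTo (U : X.affineOpens) :
    (awnCover X).f U ≫ awnTo X =
      Spec.map ((awnAlpha X).app (.op U)) ≫ U.2.fromSpec :=
  colimit.ι_desc _ _

theorem awnTo_preimage (U : X.affineOpens) :
    awnTo X ⁻¹ᵁ (U : X.Opens) = ((awnCover X).f U).opensRange := by
  simpa using! (awnGlue X).toBase_preimage_eq_opensRange_ι U

theorem isReduced_awnScheme : IsReduced (awnScheme X) := by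
  haveI : ∀ i, IsReduced ((awnCover X).X i) := fun i => by
    haveI : _root_.IsReduced ((awnPresheaf X).obj (.op i)) := isReduced_awn _
    exact inferInstanceAs (IsReduced (Spec ((awnPresheaf X).obj (.op i))))
  exact .of_openCover _ (awnCover X)

theorem isUnivHomeo_awnTo : FlatMor.IsUnivHomeo (awnTo X) := by
  have key : ∀ (P : MorphismProperty Scheme.{u}) [IsZariskiLocalAtTarget P],
      (∀ (A : CommRingCat.{u}), P (Spec.map (CommRingCat.ofHom (algebraMap A (awn A))))) → P (awnTo X) := by
    intro P _ hP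
    rw [IsZariskiLocalAtTarget.iff_of_iSup_eq_top (P := P) _ (iSup_affineOpens_eq_top X)]
    intro U
    let e := IsOpenImmersion.isoOfRangeEq (awnTo X ⁻¹ᵁ (U : X.Opens)).ι ((awnCover X).f U)
      (by simpa using congr($(awnTo_preimage X U).1))
    rw [← MorphismProperty.cancel_left_of_respectsIso P e.inv,
      ← MorphismProperty.cancel_right_of_respectsIso P _ U.2.isoSpec.hom]
    convert! hP Γ(X, U)
    haveI : IsOpenImmersion U.2.fromSpec := U.2.isOpenImmersion_fromSpec
    rw [← cancel_mono U.2.fromSpec]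
    simp only [Category.assoc, IsAffineOpen.isoSpec_hom_fromSpec, morphismRestrict_ι]
    rw [← Category.assoc, show e.inv ≫ (awnTo X ⁻¹ᵁ (U : X.Opens)).ι = (awnCover X).f U from
      IsOpenImmersion.isoOfRangeEq_inv_fac _ _ _, ι_awnTo]
    rfl
  refine isUnivHomeo_iff.mpr ⟨key @UniversallyClosed fun A => ?_, key @UniversallyInjective fun A => ?_,
    key @Surjective fun A => ?_⟩
  · exact (isUnivHomeo_iff.mp (isUnivHomeo_awn A)).1
  · exact (isUnivHomeo_iff.mp (isUnivHomeo_awn A)).2.1
  · exact (isUnivHomeo_iff.mp (isUnivHomeo_awn A)).2.2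

theorem isAWN_awnScheme : IsAWN (awnScheme X) := by
  intro x
  obtain ⟨i, y, rfl⟩ := (awnCover X).exists_eq x
  refine ⟨⟨((awnCover X).f i).opensRange, @isAffineOpen_opensRange _ _ (inferInstanceAs
    (IsAffine (Spec ((awnPresheaf X).obj (.op i))))) ((awnCover X).f i) _⟩, ⟨y, rfl⟩, ?_⟩
  exact isAWNRing_of_ringEquiv
    (((awnScheme X).presheaf.mapIso (eqToIso (Scheme.Hom.image_top_eq_opensRange ((awnCover X).f i))).op ≪≫
      ((awnCover X).f i).appIso ⊤ ≪≫ Scheme.ΓSpecIso ((awnPresheaf X).obj (.op i))).commRingCatIsoToRingEquiv.symm)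
    (isAWNRing_awn _)

theorem isAWNormalization_awnTo : IsAWNormalization (awnTo X) := by
  refine ⟨isUnivHomeo_awnTo X, fun Y π hπ => ?_⟩
  haveI := isReduced_awnScheme X
  haveI := isAffineHom_of_isUnivHomeo hπ
  have hex : ∀ U : X.affineOpens, ∃ l : Γ(Y, π ⁻¹ᵁ (U : X.Opens)) →+* awn Γ(X, U),
      l.comp (π.app U).hom = algebraMap Γ(X, U) (awn Γ(X, U)) := fun U =>
    ((isRingAWN_awn Γ(X, U)).2 Γ(Y, π ⁻¹ᵁ (U : X.Opens)) (π.app U).hom
      (isUnivHomeo_app_of_affine hπ U.2)).exists
  choose l hl using hex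
  let g : ∀ i, (awnCover X).X i ⟶ Y := fun U => Spec.map (CommRingCat.ofHom (l U)) ≫ (U.2.preimage π).fromSpec
  have hg : ∀ U : X.affineOpens, g U ≫ π = (awnCover X).f U ≫ awnTo X := fun U => by
    simp only [g, Category.assoc]
    rw [← IsAffineOpen.SpecMap_appLE_fromSpec π U.2 (U.2.preimage π) le_rfl, ← Spec.map_comp_assoc,
      ← Scheme.Hom.app_eq_appLE, ι_awnTo]
    congr 2
    ext a
    exact RingHom.congr_fun (hl U) a
  refine ⟨(awnCover X).glueMorphisms g fun i j => ?_, ?_, fun h' hh' => ?_⟩
  · haveI : IsReduced (pullback ((awnCover X).f i) ((awnCover X).f j)) :=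
      isReduced_of_isOpenImmersion (pullback.fst _ _ ≫ (awnCover X).f i)
    exact hom_ext_of_univHomeo hπ (by simp only [Category.assoc, hg, pullback.condition_assoc])
  · refine (awnCover X).hom_ext _ _ fun i => ?_
    rw [Scheme.Cover.ι_glueMorphisms_assoc, hg]
  · refine hom_ext_of_univHomeo hπ ?_
    rw [hh']
    refine (awnCover X).hom_ext _ _ fun i => ?_
    rw [Scheme.Cover.ι_glueMorphisms_assoc, hg]

end Groth.Agent.HTopAwn
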